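import Groth.Agent.Lib.NormAmple.Descent
import Groth.Agent.Lib.Ample.LocusGen
import Groth.Agent.Lib.Ample.Product
import Groth.Prelude.Def_Fitting

/-!
# Ampleness and quasi-affineness along finite morphisms with a norm
-/

set_option autoImplicit false
set_option linter.all false

universe u

set_option backward.isDefEq.respectTransparency false

open AlgebraicGeometry CategoryTheory CategoryTheory.Limits TopologicalSpace Opposite
open GrothLib.Ample GrothLib.InvExt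

noncomputable section

namespace GrothLib.NormAmple

variable {X Y : Scheme.{u}} {π : X ⟶ Y} {d : ℕ}

theorem norm_res' (ν : Nrm.NormOfDegree π d) {U V : Y.Opens} (h : V ≤ U) (s : Γ(X, π ⁻¹ᵁ U)) :
    res h (ν.norm U s) = ν.norm V (res (π.preimage_mono h) s) :=
  ν.norm_res (homOfLE h) s

/-- A morphism with a norm is surjective if it is closed. -/
theorem surjective_of_norm [IsFinite π] (ν : Nrm.NormOfDegree π d) : Surjective π := by
  refine ⟨fun y => ?_⟩
  by_contra hy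
  let V : Y.Opens := ⟨(Set.range π)ᶜ, (Set.image_univ (f := π) ▸ π.isClosedMap _ isClosed_univ).isOpen_compl⟩
  have hyV : y ∈ V := fun ⟨z, hz⟩ => hy ⟨z, hz⟩
  haveI : Nontrivial Γ(Y, V) := nontrivial_of_mem hyV
  have hbot : π ⁻¹ᵁ V = ⊥ := le_bot_iff.1 fun z hz => (hz ⟨z, rfl⟩).elim
  haveI : Subsingleton Γ(X, π ⁻¹ᵁ V) := by rw [hbot]; infer_instance
  have h := ν.norm_app V 0
  rw [Subsingleton.elim ((π.app V) 0) 1, map_one, zero_pow (Nat.one_le_iff_ne_zero.1 ν.one_le)] at h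
  exact one_ne_zero h

theorem mem_basicOpen_norm [IsFinite π] (ν : Nrm.NormOfDegree π d) {W : Y.Opens} (a : Γ(X, π ⁻¹ᵁ W)) {y : Y}
    (hy : y ∈ W) : y ∈ Y.basicOpen (ν.norm W a) ↔ ∀ z : X, π z = y → z ∈ X.basicOpen a := by
  constructor
  · intro h z hz
    subst hz
    by_contra hza
    refine (IsLocalRing.mem_maximalIdeal _).1 (ν.norm_mem W a z hy ?_) ((Y.mem_basicOpen _ (π z) hy).1 h)
    rw [IsLocalRing.mem_maximalIdeal, mem_nonunits_iff]
    exact fun hu => hza ((X.mem_basicOpen a z hy).2 hu)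
  · intro hz
    have hcl : IsClosed (π '' ((X.basicOpen a : Set X)ᶜ)) :=
      π.isClosedMap _ (X.basicOpen a).2.isClosed_compl
    let W₀ : Y.Opens := W ⊓ ⟨_, hcl.isOpen_compl⟩
    have hy₀ : y ∈ W₀ := ⟨hy, fun ⟨z, hz', hzy⟩ => hz' (hz z hzy)⟩
    have hle : W₀ ≤ W := inf_le_left
    have hsub : π ⁻¹ᵁ W₀ ≤ X.basicOpen a := fun z hz0 => by
      by_contra hz'
      exact hz0.2 ⟨z, hz', rfl⟩
    have h1 : IsUnit (ν.norm W₀ (res (π.preimage_mono hle) a)) :=
      (isUnit_res_of_le a _ hsub).map (ν.norm W₀)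
    rw [← norm_res' ν hle] at h1
    have h2 := Y.basicOpen_of_isUnit h1
    rw [Scheme.basicOpen_res] at h2
    rw [← h2] at hy₀
    exact hy₀.2

/-- The norm data of a norm, for any cocycle. -/
def normDataOfNorm [IsFinite π] (ν : Nrm.NormOfDegree π d) (c : Cocycle Y) : NormData π c where
  deg := d
  deg_pos := ν.one_le
  N W _ a := ν.norm W a
  map_mul W _ a b := map_mul (ν.norm W) a b
  map_app W _ r := ν.norm_app W r
  res_N W W' hle _ _ a := norm_res' ν hle a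
  mem_of_forall W _ a y hy hz := (mem_basicOpen_norm ν a hy).2 hz
  exists_of_mem W _ a y hy hN := by
    obtain ⟨z, hz⟩ := (surjective_of_norm ν).surj y
    exact ⟨z, hz, (mem_basicOpen_norm ν a hy).1 hN z hz⟩

theorem compactSpace_of_norm [IsFinite π] [CompactSpace X] (ν : Nrm.NormOfDegree π d) : CompactSpace Y := by
  refine ⟨?_⟩
  rw [← (surjective_of_norm ν).surj.range_eq]
  exact isCompact_range π.continuous

/-- Quasi-affineness descends along a finite morphism with a norm. -/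
theorem isQuasiAffine_of_norm [IsFinite π] (ν : Nrm.NormOfDegree π d) (hX : X.IsQuasiAffine) :
    Y.IsQuasiAffine := by
  have hA := Ample.isQuasiAffine_iff.1 hX
  haveI : CompactSpace X := Ample.compactSpace_of_isAmple hA
  haveI := compactSpace_of_norm ν
  haveI := surjective_of_norm ν
  obtain ⟨e⟩ := Cocycle.nonempty_structureModule_iso_triv (X := Y)
  obtain ⟨p⟩ := (Cocycle.triv Y).nonempty_pullback_iso π e
  obtain ⟨o⟩ := Ample.nonempty_pullback_structureModule π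
  have h := (((Cocycle.triv Y).comap π).isAmple_iff (o.symm ≪≫ p)).1 hA
  exact Ample.isQuasiAffine_iff.2
    (((Cocycle.triv Y).isAmple_iff e).2 ⟨inferInstance, isAmp_of_normData (normDataOfNorm ν _) h.2⟩)

/-- A cocycle on `Y` from transition functions upstairs. -/
def normCocycle (ν : Nrm.NormOfDegree π d) {ι : Type u} (V : ι → Y.Opens) (hV : ⨆ i, V i = ⊤)
    (γ : ∀ i j, Γ(X, π ⁻¹ᵁ V i ⊓ π ⁻¹ᵁ V j))
    (hself : ∀ (i) (W : X.Opens) (h : W ≤ π ⁻¹ᵁ V i), res (le_inf h h) (γ i i) = 1)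
    (hchange : ∀ (i j k) (W : X.Opens) (hi : W ≤ π ⁻¹ᵁ V i) (hj : W ≤ π ⁻¹ᵁ V j) (hk : W ≤ π ⁻¹ᵁ V k),
      res (le_inf hi hk) (γ i k) = res (le_inf hi hj) (γ i j) * res (le_inf hj hk) (γ j k)) : Cocycle Y where
  ι := ι
  D := V
  g i j := ν.norm (V i ⊓ V j) (γ i j)
  cover := hV
  self i W h := by
    rw [norm_res' ν (le_inf h h)]
    exact (congrArg (ν.norm W) (hself i (π ⁻¹ᵁ W) (π.preimage_mono h))).trans (map_one _)
  change i j k W hi hj hk := by
    rw [norm_res' ν (le_inf hi hk), norm_res' ν (le_inf hi hj), norm_res' ν (le_inf hj hk)]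
    exact (congrArg (ν.norm W) (hchange i j k (π ⁻¹ᵁ W) (π.preimage_mono hi) (π.preimage_mono hj)
      (π.preimage_mono hk))).trans (map_mul _ _ _)

theorem normCocycle_G (ν : Nrm.NormOfDegree π d) {ι : Type u} (V : ι → Y.Opens) (hV : ⨆ i, V i = ⊤)
    (γ : ∀ i j, Γ(X, π ⁻¹ᵁ V i ⊓ π ⁻¹ᵁ V j)) (hs) (hc) (i j : ι) {W : Y.Opens} (hi : W ≤ V i) (hj : W ≤ V j) :
    (normCocycle ν V hV γ hs hc).G i j hi hj =
      ν.norm W (res (le_inf (π.preimage_mono hi) (π.preimage_mono hj)) (γ i j)) :=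
  norm_res' ν (le_inf hi hj) (γ i j)

/-- The norm of an ample module is ample. -/
theorem isAmp_normCocycle [IsFinite π] [CompactSpace Y] (ν : Nrm.NormOfDegree π d) {ι : Type u}
    (V : ι → Y.Opens) (hV : ⨆ i, V i = ⊤) (γ : ∀ i j, Γ(X, π ⁻¹ᵁ V i ⊓ π ⁻¹ᵁ V j)) (hs) (hc) (hcov)
    (h : ({ ι := ι, D := fun i => π ⁻¹ᵁ V i, g := γ, cover := hcov, self := hs, change := hc } : Cocycle X).IsAmp) :
    (normCocycle ν V hV γ hs hc).IsAmp := by
  haveI : CompactSpace X := QuasiCompact.compactSpace_of_compactSpace π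
  let cX : Cocycle X := { ι := ι, D := fun i => π ⁻¹ᵁ V i, g := γ, cover := hcov, self := hs, change := hc }
  let cY := normCocycle ν V hV γ hs hc
  intro p
  obtain ⟨i₀, W, hpW, -, hW⟩ := cY.exists_affine_le_D p
  obtain ⟨n, a, hZ, haW, -⟩ := cX.exists_affine_locus_finite h
    (π.finite_preimage_singleton p) (U := π ⁻¹ᵁ W)
    (by rintro z hz; show π z ∈ W; rw [Set.mem_singleton_iff.mp hz]; exact hpW)
  have hle : ∀ i, π ⁻¹ᵁ ((⊤ : Y.Opens) ⊓ V i) ≤ (⊤ : X.Opens) ⊓ π ⁻¹ᵁ V i := fun i =>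
    le_inf le_top (π.preimage_mono inf_le_right)
  let b : cY.sect (n + 1) ⊤ := ⟨fun (i : ι) => ν.norm ((⊤ : Y.Opens) ⊓ V i) (res (hle i) (a.1 i)), by
    intro (i : ι) (j : ι) U (hi : U ≤ (⊤ : Y.Opens) ⊓ V i) (hj : U ≤ (⊤ : Y.Opens) ⊓ V j)
    have hUi : U ≤ V i := hi.trans inf_le_right
    have hUj : U ≤ V j := hj.trans inf_le_right
    show res hi (ν.norm _ (res (hle i) (a.1 i))) = _ * res hj (ν.norm _ (res (hle j) (a.1 j)))
    rw [norm_res' ν hi, norm_res' ν hj, res_res, res_res]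
    have e := cX.sect_spec a i j (W := π ⁻¹ᵁ U) ((π.preimage_mono hi).trans (hle i))
      ((π.preimage_mono hj).trans (hle j))
    erw [e]
    rw [map_mul, map_pow]
    congr 2
    exact (normCocycle_G ν V hV γ hs hc i j hUi hUj).symm⟩
  refine ⟨n, b, ?_⟩
  have hloc : ∀ (i : ι) (z : X), z ∈ π ⁻¹ᵁ V i →
      (z ∈ cX.locus a ↔ z ∈ X.basicOpen (res (hle i) (a.1 i))) := by
    intro i z hzi
    rw [cX.mem_locus_iff a (i := i) hzi, Scheme.basicOpen_res]
    exact ⟨fun h => ⟨⟨trivial, hzi⟩, h⟩, fun h => h.2⟩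
  refine ⟨?_, cY.isAffineOpen_locus_of_le _ hW fun y hy => ?_⟩
  · obtain ⟨i, hi⟩ := cY.exists_mem p
    rw [cY.mem_locus_iff b hi]
    refine (mem_basicOpen_norm ν (res (hle i) (a.1 i)) (W := (⊤ : Y.Opens) ⊓ V i) ⟨trivial, hi⟩).2 fun z hz => ?_
    exact (hloc i z (by show π z ∈ V i; rw [hz]; exact hi)).mp (hZ hz)
  · obtain ⟨i, hi⟩ := cY.exists_mem y
    rw [cY.mem_locus_iff b hi] at hy
    obtain ⟨z, hz⟩ := (surjective_of_norm ν).surj y
    have hza := (mem_basicOpen_norm ν (res (hle i) (a.1 i)) (W := (⊤ : Y.Opens) ⊓ V i) ⟨trivial, hi⟩).1 hy z hz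
    rw [← hz]
    exact haW ((hloc i z (by show π z ∈ V i; rw [hz]; exact hi)).mpr hza)

/-- Transition functions of a family of generators. -/
theorem exists_cocycle_of_gens {M : X.Modules} {ι : Type u} (D : ι → X.Opens) (hD : ⨆ i, D i = ⊤)
    (e : ∀ i, Γ(M, D i)) (he : ∀ i, IsGen M (D i) (e i)) :
    ∃ (γ : ∀ i j, Γ(X, D i ⊓ D j)) (hs : ∀ (i) (W : X.Opens) (h : W ≤ D i), res (le_inf h h) (γ i i) = 1)
      (hc : ∀ (i j k) (W : X.Opens) (hi : W ≤ D i) (hj : W ≤ D j) (hk : W ≤ D k),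
        res (le_inf hi hk) (γ i k) = res (le_inf hi hj) (γ i j) * res (le_inf hj hk) (γ j k)),
      Nonempty (M ≅ ({ ι := ι, D := D, g := γ, cover := hD, self := hs, change := hc } : Cocycle X).twist 1) := by
  choose γ hγ using fun i j => (he i).exists_smul_eq (inf_le_left : D i ⊓ D j ≤ D i) (mres M inf_le_right (e j))
  have hres : ∀ (i j) (W : X.Opens) (hi : W ≤ D i) (hj : W ≤ D j),
      mres M hj (e j) = res (le_inf hi hj) (γ i j) • mres M hi (e i) := by
    intro i j W hi hj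
    have := congrArg (mres M (le_inf hi hj)) (hγ i j)
    rwa [InvExt.mres_mres, mres_smul', InvExt.mres_mres] at this
  have hs : ∀ (i) (W : X.Opens) (h : W ≤ D i), res (le_inf h h) (γ i i) = 1 := fun i W h =>
    (he i).smul_left_injective h (by rw [← hres i i W h h, one_smul])
  have hc : ∀ (i j k) (W : X.Opens) (hi : W ≤ D i) (hj : W ≤ D j) (hk : W ≤ D k),
      res (le_inf hi hk) (γ i k) = res (le_inf hi hj) (γ i j) * res (le_inf hj hk) (γ j k) :=
    fun i j k W hi hj hk => (he i).smul_left_injective hi (by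
      rw [← hres i k W hi hk, hres j k W hj hk, hres i j W hi hj, smul_smul, mul_comm])
  let c : Cocycle X := { ι := ι, D := D, g := γ, cover := hD, self := hs, change := hc }
  have hm : c.IsFamily 1 (M := M) e := fun i j W hi hj => by
    rw [pow_one]; exact hres i j W hi hj
  haveI := c.isIso_homOfFamily hm he
  exact ⟨γ, hs, hc, ⟨(asIso (c.homOfFamily hm)).symm⟩⟩

/-- A base of a finite morphism with a norm from a scheme with an ample module has an ample module. -/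
theorem exists_ample_of_norm [IsFinite π] (ν : Nrm.NormOfDegree π d) {L : X.Modules} (hL : CohB1.IsAmple L) :
    ∃ N : Y.Modules, CohB1.IsAmple N := by
  classical
  haveI := Ample.compactSpace_of_isAmple hL
  haveI := compactSpace_of_norm ν
  obtain ⟨c, ⟨e⟩⟩ := Ample.exists_cocycle hL.1
  have hc := ((c.isAmple_iff e).1 hL).2
  have hloc : ∀ y : Y, ∃ (n : ℕ) (a : c.sect (n + 1) ⊤) (V : Y.Opens), y ∈ V ∧ π ⁻¹ᵁ V ≤ c.locus a := by
    intro y
    obtain ⟨n, a, hZ, -, -⟩ := c.exists_affine_locus_finite hc (π.finite_preimage_singleton y) (U := ⊤)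
      fun z _ => trivial
    let V : Y.Opens := ⟨_, (π.isClosedMap _ (c.locus a).2.isClosed_compl).isOpen_compl⟩
    refine ⟨n, a, V, fun ⟨z, hz, hzy⟩ => hz (hZ hzy), fun z hz => ?_⟩
    by_contra hz'
    exact hz ⟨z, hz', rfl⟩
  choose n a V hyV hVa using hloc
  obtain ⟨s, hs⟩ := isCompact_univ.elim_finite_subcover (fun y => (V y : Set Y)) (fun y => (V y).2)
    (fun y _ => Set.mem_iUnion.mpr ⟨y, hyV y⟩)
  let N := ∏ y ∈ s, (n y + 1)
  have hN : 0 < N := Finset.prod_pos fun y _ => Nat.succ_pos (n y)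
  have hq : ∀ y : s, ∃ q, 0 < q ∧ (n y.1 + 1) * q = N * 1 := fun y => by
    obtain ⟨q, hq⟩ := Finset.dvd_prod_of_mem (fun y => n y + 1) y.2
    refine ⟨q, Nat.pos_of_ne_zero ?_, by rw [mul_one]; exact hq.symm⟩
    rintro rfl
    rw [mul_zero] at hq
    exact hN.ne' hq
  choose q hq0 hqN using hq
  let P := c.pow N
  let b : s → P.sect 1 ⊤ := fun y => c.toPow N (c.sectCast (hqN y) (c.sectPow (a y.1) (q y)))
  have hb : ∀ y : s, π ⁻¹ᵁ V y.1 ≤ P.locus (b y) := fun y => by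
    rw [c.locus_toPow, c.locus_sectCast, c.locus_sectPow _ (hq0 y)]
    exact hVa y.1
  have hV : ⨆ y : s, V y.1 = ⊤ := eq_top_iff.2 fun z _ => by
    obtain ⟨y, hy, hz⟩ := Set.mem_iUnion₂.1 (hs (Set.mem_univ z))
    exact Opens.mem_iSup.2 ⟨⟨y, hy⟩, hz⟩
  have hcov : ⨆ y : s, π ⁻¹ᵁ V y.1 = ⊤ := eq_top_iff.2 fun z _ => by
    obtain ⟨y, hy⟩ := Opens.mem_iSup.1 (show π z ∈ ⨆ y : s, V y.1 by rw [hV]; trivial)
    exact Opens.mem_iSup.2 ⟨y, hy⟩
  obtain ⟨γ, hs', hc', ⟨i⟩⟩ := exists_cocycle_of_gens (M := P.twist 1) (fun y : s => π ⁻¹ᵁ V y.1) hcov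
    (fun y => mres (P.twist 1) (hb y) (P.sectRes le_top (b y)))
    (fun y => (P.isGen_sectRes_locus (b y)).restrict (hb y))
  have hP : CohB1.IsAmple (P.twist 1) :=
    (P.isAmple_iff (Iso.refl _)).2 ⟨inferInstance, (c.isAmp_pow_iff hN).2 hc⟩
  have h := ((Cocycle.isAmple_iff _ i).1 hP).2
  exact ⟨_, (Cocycle.isAmple_iff _ (Iso.refl _)).2
    ⟨inferInstance, isAmp_normCocycle ν (fun y : s => V y.1) hV γ hs' hc' hcov h⟩⟩

end GrothLib.NormAmple
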