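import Groth.Agent.Lib.Ample.RelAmple
import Groth.Agent.Lib.Ample.Finite
import Groth.Agent.Lib.FinCov.Frame
import Mathlib

/-!
# Norms along finite morphisms with free pieces

`NormData g c` is a multiplicative norm `g_* O → O` of some positive degree, given over the opens
subordinate to a cocycle `c`, whose non-vanishing locus is the set of points with fibre in the
non-vanishing locus of the argument.
-/

universe u

set_option backward.isDefEq.respectTransparency false

open AlgebraicGeometry CategoryTheory CategoryTheory.Limits TopologicalSpace Opposite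
open GrothLib.Ample GrothLib.InvExt

noncomputable section

namespace GrothLib.NormAmple

variable {X X' : Scheme.{u}}

/-- A norm along `g` on the opens subordinate to a cocycle. -/
structure NormData (g : X' ⟶ X) (c : Cocycle X) where
  /-- the degree -/
  deg : ℕ
  deg_pos : 0 < deg
  /-- the norm -/
  N : ∀ W : X.Opens, (∃ i, W ≤ c.D i) → Γ(X', g ⁻¹ᵁ W) → Γ(X, W)
  map_mul : ∀ W h a b, N W h (a * b) = N W h a * N W h b
  map_app : ∀ W h r, N W h ((g.app W).hom r) = r ^ deg
  res_N : ∀ (W W' : X.Opens) (hle : W' ≤ W) h h' a,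
    res hle (N W h a) = N W' h' (res (g.preimage_mono hle) a)
  mem_of_forall : ∀ (W : X.Opens) h a (x : X), x ∈ W →
    (∀ z : X', g z = x → z ∈ X'.basicOpen a) → x ∈ X.basicOpen (N W h a)
  exists_of_mem : ∀ (W : X.Opens) h a (x : X), x ∈ W →
    x ∈ X.basicOpen (N W h a) → ∃ z : X', g z = x ∧ z ∈ X'.basicOpen a

/-- A frame of `g_* O` over an open, on the level of rings. -/
def IsRingFrame (g : X' ⟶ X) (T : X.Opens) {n : ℕ} (e : Fin n → Γ(X', g ⁻¹ᵁ T)) : Prop :=
  ∀ (W : X.Opens) (h : W ≤ T),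
    Function.Bijective fun r : Fin n → Γ(X, W) => ∑ i, (g.app W).hom (r i) * res (g.preimage_mono h) (e i)

theorem exists_ringFrame (g : X' ⟶ X)
    (hfree : FlatMod.IsFinLocFree ((Coh.push g).obj (Coh.structureModule X'))) (x : X) :
    ∃ (T : X.Opens) (n : ℕ) (e : Fin n → Γ(X', g ⁻¹ᵁ T)), x ∈ T ∧ IsRingFrame g T e := by
  obtain ⟨T, n, e, hx, he⟩ := FinCov.exists_frame_nhd hfree x
  refine ⟨T, n, e, hx, fun W h => ?_⟩
  exact he W h

variable {g : X' ⟶ X}

theorem IsRingFrame.mono {T T' : X.Opens} {n : ℕ} {e : Fin n → Γ(X', g ⁻¹ᵁ T)}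
    (he : IsRingFrame g T e) (h : T' ≤ T) : IsRingFrame g T' fun i => res (g.preimage_mono h) (e i) := by
  intro W hW
  simpa only [res_res] using he W (hW.trans h)

/-- The basis of the sections over a smaller open given by a frame. -/
def IsRingFrame.basis {T : X.Opens} {n : ℕ} {e : Fin n → Γ(X', g ⁻¹ᵁ T)} (he : IsRingFrame g T e)
    (W : X.Opens) (h : W ≤ T) :
    letI := (g.app W).hom.toAlgebra
    Module.Basis (Fin n) Γ(X, W) Γ(X', g ⁻¹ᵁ W) :=
  letI := (g.app W).hom.toAlgebra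
  let L : (Fin n → Γ(X, W)) →ₗ[Γ(X, W)] Γ(X', g ⁻¹ᵁ W) :=
    { toFun := fun r => ∑ i, (g.app W).hom (r i) * res (g.preimage_mono h) (e i)
      map_add' := fun r s => by simp [add_mul, Finset.sum_add_distrib]
      map_smul' := fun r s => by
        simp only [Pi.smul_apply, smul_eq_mul, map_mul, RingHom.id_apply, Algebra.smul_def, Finset.mul_sum,
          mul_assoc]
        rfl }
  Module.Basis.ofEquivFun (LinearEquiv.ofBijective L (he W h)).symm

theorem IsRingFrame.basis_apply {T : X.Opens} {n : ℕ} {e : Fin n → Γ(X', g ⁻¹ᵁ T)} (he : IsRingFrame g T e)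
    (W : X.Opens) (h : W ≤ T) (i : Fin n) :
    letI := (g.app W).hom.toAlgebra
    he.basis W h i = res (g.preimage_mono h) (e i) := by
  classical
  letI := (g.app W).hom.toAlgebra
  rw [IsRingFrame.basis, Module.Basis.coe_ofEquivFun]
  simp [Pi.single_apply, apply_ite (g.app W).hom]

theorem app_res {W W' : X.Opens} (hle : W' ≤ W) (r : Γ(X, W)) :
    res (g.preimage_mono hle) ((g.app W).hom r) = (g.app W').hom (res hle r) := by
  have := congr($(g.naturality (homOfLE hle).op) r)
  exact this.symm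

/-- The norm over an open, raised so as to have degree `M`. -/
def nrm (g : X' ⟶ X) (M : ℕ) (W : X.Opens) (a : Γ(X', g ⁻¹ᵁ W)) : Γ(X, W) :=
  letI := (g.app W).hom.toAlgebra
  Algebra.norm Γ(X, W) a ^ (M / Module.finrank Γ(X, W) Γ(X', g ⁻¹ᵁ W))

theorem nrm_mul (M : ℕ) (W : X.Opens) (a b : Γ(X', g ⁻¹ᵁ W)) :
    nrm g M W (a * b) = nrm g M W a * nrm g M W b := by
  simp only [nrm, map_mul, mul_pow]

theorem nrm_app {M : ℕ} {T : X.Opens} {n : ℕ} {e : Fin n → Γ(X', g ⁻¹ᵁ T)} (he : IsRingFrame g T e)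
    (hn : n ∣ M) {W : X.Opens} (h : W ≤ T) (r : Γ(X, W)) : nrm g M W ((g.app W).hom r) = r ^ M := by
  letI := (g.app W).hom.toAlgebra
  rcases subsingleton_or_nontrivial Γ(X, W) with hs | hs
  · exact Subsingleton.elim _ _
  rw [nrm, Module.finrank_eq_card_basis (he.basis W h), show (g.app W).hom r = algebraMap _ _ r from rfl,
    Algebra.norm_algebraMap_of_basis (he.basis W h), Fintype.card_fin, ← pow_mul, Nat.mul_div_cancel' hn]

theorem res_nrm {M : ℕ} {T : X.Opens} {n : ℕ} {e : Fin n → Γ(X', g ⁻¹ᵁ T)} (he : IsRingFrame g T e)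
    {W W' : X.Opens} (h : W ≤ T) (hle : W' ≤ W) (a : Γ(X', g ⁻¹ᵁ W)) :
    res hle (nrm g M W a) = nrm g M W' (res (g.preimage_mono hle) a) := by
  classical
  rcases subsingleton_or_nontrivial Γ(X, W') with hs | hs
  · exact Subsingleton.elim _ _
  haveI : Nontrivial Γ(X, W) := (res hle : Γ(X, W) →+* Γ(X, W')).domain_nontrivial
  letI := (g.app W).hom.toAlgebra
  letI := (g.app W').hom.toAlgebra
  let b := he.basis W h
  let b' := he.basis W' (hle.trans h)
  have hb : ∀ i, res (g.preimage_mono hle) (b i) = b' i := fun i => by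
    simp only [b, b', IsRingFrame.basis_apply, res_res]
  have key : ∀ v : Γ(X', g ⁻¹ᵁ W), ∀ i,
      b'.repr (res (g.preimage_mono hle) v) i = res hle (b.repr v i) := by
    intro v i
    conv_lhs => rw [← b.sum_repr v]
    rw [map_sum]
    have : ∀ j, res (g.preimage_mono hle) (b.repr v j • b j) = res hle (b.repr v j) • b' j := fun j => by
      rw [Algebra.smul_def, Algebra.smul_def, map_mul, hb]
      congr 1
      exact app_res hle _
    rw [Finset.sum_congr rfl fun j _ => this j, Module.Basis.repr_sum_self]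
  have hdet : res hle (Algebra.norm Γ(X, W) a) = Algebra.norm Γ(X, W') (res (g.preimage_mono hle) a) := by
    rw [Algebra.norm_eq_matrix_det b, Algebra.norm_eq_matrix_det b', RingHom.map_det]
    congr 1
    ext i j
    simp only [RingHom.mapMatrix_apply, Matrix.map_apply, Algebra.leftMulMatrix_eq_repr_mul]
    rw [← key, map_mul, hb]
  rw [nrm, nrm, map_pow, hdet, Module.finrank_eq_card_basis b, Module.finrank_eq_card_basis b']

theorem isUnit_of_isUnit_norm {R S : Type*} [CommRing R] [CommRing S] [Algebra R S] {ι : Type*} [Fintype ι]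
    (b : Module.Basis ι R S) {a : S} (h : IsUnit (Algebra.norm R a)) : IsUnit a := by
  haveI : Module.Free R S := Module.Free.of_basis b
  haveI : Module.Finite R S := Module.Finite.of_basis b
  rw [Algebra.norm_apply, ← LinearMap.isUnit_iff_isUnit_det, Module.End.isUnit_iff] at h
  obtain ⟨c, hc⟩ := h.2 1
  exact IsUnit.of_mul_eq_one c hc

theorem isUnit_res_of_le {U V : X.Opens} (a : Γ(X, U)) (h : V ≤ U) (hV : V ≤ X.basicOpen a) :
    IsUnit (res h a) := by
  have h2 := (X.toRingedSpace.isUnit_res_basicOpen a).map (res hV)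
  have e : res hV (res (X.basicOpen_le a) a) = res h a := res_res _ _ _
  rw [← e]
  exact h2

theorem nontrivial_of_mem {W : X.Opens} {x : X} (hx : x ∈ W) : Nontrivial Γ(X, W) :=
  (X.presheaf.germ W x hx).hom.domain_nontrivial

theorem mem_basicOpen_nrm [IsFinite g] {M : ℕ} (hM : 0 < M) {T : X.Opens} {n : ℕ}
    {e : Fin n → Γ(X', g ⁻¹ᵁ T)} (he : IsRingFrame g T e) (hn : n ∣ M) {W : X.Opens} (h : W ≤ T)
    (a : Γ(X', g ⁻¹ᵁ W)) {x : X} (hxW : x ∈ W) :
    x ∈ X.basicOpen (nrm g M W a) ↔ ∀ z : X', g z = x → z ∈ X'.basicOpen a := by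
  constructor
  · intro hx z hz
    let W₀ := X.basicOpen (nrm g M W a)
    have hle : W₀ ≤ W := X.basicOpen_le _
    haveI : Nontrivial Γ(X, W₀) := nontrivial_of_mem hx
    have h1 : IsUnit (nrm g M W₀ (res (g.preimage_mono hle) a)) := by
      rw [← res_nrm he h hle]
      exact isUnit_res_of_le _ _ le_rfl
    letI := (g.app W₀).hom.toAlgebra
    have hk : M / Module.finrank Γ(X, W₀) Γ(X', g ⁻¹ᵁ W₀) ≠ 0 := by
      rw [Module.finrank_eq_card_basis (he.basis W₀ (hle.trans h)), Fintype.card_fin]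
      exact (Nat.div_pos (Nat.le_of_dvd hM hn) (Nat.pos_of_dvd_of_pos hn hM)).ne'
    rw [nrm, isUnit_pow_iff hk] at h1
    have h2 := isUnit_of_isUnit_norm (he.basis W₀ (hle.trans h)) h1
    have h3 := X'.basicOpen_of_isUnit h2
    rw [Scheme.basicOpen_res] at h3
    have h4 : z ∈ g ⁻¹ᵁ W₀ := by
      show g z ∈ W₀
      rw [hz]; exact hx
    rw [← h3] at h4
    exact h4.2
  · intro hz
    have hcl : IsClosed (g '' ((X'.basicOpen a : Set X')ᶜ)) :=
      g.isClosedMap _ (X'.basicOpen a).2.isClosed_compl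
    let W₀ : X.Opens := W ⊓ ⟨_, hcl.isOpen_compl⟩
    have hx : x ∈ W₀ := ⟨hxW, fun ⟨z, hz', hzx⟩ => hz' (hz z hzx)⟩
    have hle : W₀ ≤ W := inf_le_left
    have hsub : g ⁻¹ᵁ W₀ ≤ X'.basicOpen a := by
      intro z hz0
      by_contra hz'
      exact hz0.2 ⟨z, hz', rfl⟩
    have h1 : IsUnit (nrm g M W₀ (res (g.preimage_mono hle) a)) := by
      letI := (g.app W₀).hom.toAlgebra
      exact ((isUnit_res_of_le a _ hsub).map (Algebra.norm Γ(X, W₀))).pow _
    rw [← res_nrm he h hle] at h1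
    have h2 := X.basicOpen_of_isUnit h1
    rw [Scheme.basicOpen_res] at h2
    rw [← h2] at hx
    exact hx.2

/-- Norm data from frames. -/
def NormData.ofFrames [IsFinite g] [Surjective g] (c : Cocycle X) {M : ℕ} (hM : 0 < M)
    (h : ∀ i, ∃ (n : ℕ) (e : Fin n → Γ(X', g ⁻¹ᵁ c.D i)), IsRingFrame g (c.D i) e ∧ n ∣ M) :
    NormData g c where
  deg := M
  deg_pos := hM
  N W _ a := nrm g M W a
  map_mul W _ a b := nrm_mul M W a b
  map_app W hW r := by
    obtain ⟨i, hi⟩ := hW
    obtain ⟨n, e, he, hn⟩ := h i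
    exact nrm_app he hn hi r
  res_N W W' hle hW _ a := by
    obtain ⟨i, hi⟩ := hW
    obtain ⟨n, e, he, -⟩ := h i
    exact res_nrm he hi hle a
  mem_of_forall W hW a x hx hz := by
    obtain ⟨i, hi⟩ := hW
    obtain ⟨n, e, he, hn⟩ := h i
    exact (mem_basicOpen_nrm hM he hn hi a hx).mpr hz
  exists_of_mem W hW a x hx hN := by
    obtain ⟨i, hi⟩ := hW
    obtain ⟨n, e, he, hn⟩ := h i
    obtain ⟨z, hz⟩ := g.surjective x
    exact ⟨z, hz, (mem_basicOpen_nrm hM he hn hi a hx).mp hN z hz⟩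

end GrothLib.NormAmple
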