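import Groth.Agent.Lib.NormAmple.DetInt

/-!
# The local behaviour of a norm at a normal prime
-/

universe u

open Polynomial

noncomputable section

namespace GrothLib.NormAmple

theorem exists_det_eq {R : Type u} [CommRing R] [IsDomain R] {K : Type u} [Field K] [Algebra R K]
    [IsFractionRing R K] {B : Type u} [CommRing B] [Algebra R B] [Module.Finite R B] {n : ℕ}
    (ψ : B →ₐ[R] Matrix (Fin n) (Fin n) K) (q : Ideal R) [q.IsPrime]
    [IsIntegrallyClosed (Localization.AtPrime q)] (a : B) (k : ℕ) :
    ∃ s t : R, t ∉ q ∧ algebraMap R K t * (ψ a).det ^ k = algebraMap R K s ∧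
      (0 < n → 0 < k → ∀ (u : R) (m : ℕ), u ∉ q →
        algebraMap R B u * a ^ m ∈ q.map (algebraMap R B) → s ∈ q) := by
  classical
  let L := AlgebraicClosure K
  let Φ : B →ₐ[R] Matrix (Fin n) (Fin n) L :=
    ((IsScalarTower.toAlgHom R K L).mapMatrix).comp ψ
  have hΦ : ∀ x, (Φ x).det = algebraMap K L (ψ x).det := fun x =>
    ((IsScalarTower.toAlgHom R K L).map_det (ψ x)).symm
  have hann : ∀ (x : B) (p : R[X]), aeval x p = 0 → aeval (Φ x) p = 0 := fun x p h => by
    rw [aeval_algHom_apply, h, map_zero]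
  obtain ⟨p, hp, hpa⟩ := Algebra.IsIntegral.isIntegral (R := R) a
  have hdet : IsIntegral R (ψ a).det := by
    have h := isIntegral_det_of_aeval_eq_zero (Φ a) p hp (hann a p hpa)
    rw [hΦ] at h
    exact (isIntegral_algebraMap_iff (algebraMap K L).injective).mp h
  -- the element lies in the localization
  let A := Localization.AtPrime q
  have hu : ∀ y : q.primeCompl, IsUnit (algebraMap R K y) := fun y =>
    (IsUnit.mk0 _ ((map_ne_zero_iff _ (IsFractionRing.injective R K)).mpr fun h => y.2 (h ▸ q.zero_mem)))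
  letI : Algebra A K := (IsLocalization.lift hu).toAlgebra
  haveI : IsScalarTower R A K := IsScalarTower.of_algebraMap_eq fun x =>
    (IsLocalization.lift_eq hu x).symm
  haveI : IsFractionRing A K := IsFractionRing.isFractionRing_of_isDomain_of_isLocalization q.primeCompl A K
  have hA : IsIntegral A ((ψ a).det ^ k) := (hdet.pow k).tower_top
  obtain ⟨z, hz⟩ := IsIntegrallyClosed.isIntegral_iff.mp hA
  obtain ⟨⟨s, t⟩, hst⟩ := IsLocalization.surj q.primeCompl z
  have hrel : algebraMap R K t * (ψ a).det ^ k = algebraMap R K s := by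
    rw [← hz, IsScalarTower.algebraMap_apply R A K, IsScalarTower.algebraMap_apply R A K, ← map_mul,
      mul_comm, hst]
  refine ⟨s, t, t.2, hrel, fun hn hk u m hu' hmem => ?_⟩
  -- vanishing
  let b : B := algebraMap R B u * a ^ m
  have hrange : LinearMap.range (LinearMap.mulLeft R b) ≤ q • (⊤ : Submodule R B) := by
    rw [Ideal.smul_top_eq_map]
    rintro _ ⟨y, rfl⟩
    exact Ideal.mul_mem_right y _ hmem
  obtain ⟨P', hP'm, -, hP'c, hP'z⟩ :=
    LinearMap.exists_monic_and_natDegree_eq_and_coeff_mem_pow_and_aeval_eq_zero R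
      (LinearMap.mulLeft R b) q hrange
  have hb : aeval b P' = 0 := by
    have h := congrArg (fun f : Module.End R B => f 1) hP'z
    rw [show LinearMap.mulLeft R b = Algebra.lmul R B b from rfl, aeval_algHom_apply] at h
    simpa using h
  have hcq : ∀ i < P'.natDegree, P'.coeff i ∈ q := fun i hi =>
    (Ideal.pow_le_self (Nat.sub_ne_zero_of_lt hi)) (hP'c i)
  let S := integralClosure R L
  haveI : Algebra.IsIntegral R S := ⟨fun x => (IsIntegralClosure.isIntegral R L x)⟩
  have hinj : Function.Injective (algebraMap R S) := fun x y h => by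
    have h' := congrArg (fun z : S => (z : L)) h
    exact IsFractionRing.injective R K ((algebraMap K L).injective h')
  haveI : FaithfulSMul R S := (faithfulSMul_iff_algebraMap_injective R S).mpr hinj
  obtain ⟨P, -, hP, hPq⟩ := Ideal.exists_ideal_over_prime_of_isIntegral q (⊥ : Ideal S)
    (by intro x hx; rw [Ideal.mem_comap, Ideal.mem_bot] at hx
        rw [hinj (hx.trans (map_zero _).symm)]; exact q.zero_mem)
  haveI := hP
  have hmemP : ∀ x : R, algebraMap R S x ∈ P ↔ x ∈ q := fun x => by rw [← hPq]; rfl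
  have h1 := det_mem_of_aeval_eq_zero (Φ b) P' hP'm (hann b P' hb) hn P fun i hi =>
    (hmemP _).mpr (hcq i hi)
  let d : S := ⟨(Φ a).det, isIntegral_det_of_aeval_eq_zero (Φ a) p hp (hann a p hpa)⟩
  have h2 : algebraMap R S (u ^ n) * d ^ m ∈ P := by
    convert h1 using 1
    apply Subtype.ext
    show algebraMap R L (u ^ n) * (Φ a).det ^ m = (Φ b).det
    rw [map_mul, map_pow Φ, AlgHom.commutes, Matrix.det_mul, Matrix.det_pow,
      Matrix.algebraMap_eq_diagonal, Matrix.det_diagonal]
    simp
  have hdP : d ∈ P := by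
    rcases hP.mem_or_mem h2 with h3 | h3
    · exact absurd ((hmemP _).mp h3) fun h => hu' (‹q.IsPrime›.mem_of_pow_mem n h)
    · exact hP.mem_of_pow_mem m h3
  refine (hmemP s).mp ?_
  have e : algebraMap R S s = algebraMap R S t * d ^ k := by
    apply Subtype.ext
    show algebraMap K L (algebraMap R K s) = algebraMap K L (algebraMap R K t) * (Φ a).det ^ k
    rw [hΦ, ← hrel, map_mul, map_pow]
  rw [e]
  exact P.mul_mem_left _ (P.pow_mem_of_mem hdP k hk)

end GrothLib.NormAmple
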