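import Groth.Agent.Lib.NormAmple.Descent
import Groth.Agent.Lib.NormAmple.LocalNorm
import Groth.Agent.Lib.Ref1.Frame
import Groth.Agent.Lib.GrpdQuot.GenInvariant

/-!
# The norm along a finite surjective morphism to a reduced scheme with normal or free points
-/

universe u

set_option backward.isDefEq.respectTransparency false

open AlgebraicGeometry CategoryTheory CategoryTheory.Limits TopologicalSpace Opposite
open GrothLib.Ample GrothLib.InvExt

noncomputable section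

namespace GrothLib.NormAmple

variable {X X' : Scheme.{u}} {g : X' ⟶ X}

theorem hasRel_push [IsLocallyNoetherian X] (g : X' ⟶ X) [IsFinite g] :
    HomSh.HasRel ((Coh.push g).obj (Coh.structureModule X')) := by
  haveI := WeakAss.isQuasicoherent_structureModule (X := X')
  haveI hq : ((Coh.push g).obj (Coh.structureModule X')).IsQuasicoherent :=
    QCoh.isQuasicoherent_pushforward g _
  refine HomSh.hasRel_of_isCoh ⟨hq, (QCoh.isFiniteType_iff_moduleFinite _).2 fun U hU => ?_⟩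
  exact g.finite_app U hU

/-- A point with a domain as local ring has an affine neighbourhood with a domain of sections. -/
theorem exists_domain_nhd [IsLocallyNoetherian X] {y : X} (hd : IsDomain (X.presheaf.stalk y))
    {W : X.Opens} (hy : y ∈ W) :
    ∃ U : X.Opens, IsAffineOpen U ∧ y ∈ U ∧ U ≤ W ∧ IsDomain Γ(X, U) := by
  obtain ⟨U, hU, hyU, hUW⟩ := exists_isAffineOpen_mem_and_subset hy
  haveI : IsNoetherianRing Γ(X, U) := IsLocallyNoetherian.component_noetherian ⟨U, hU⟩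
  letI := TopCat.Presheaf.algebra_section_stalk X.presheaf (⟨y, hyU⟩ : U)
  haveI := hU.isLocalization_stalk ⟨y, hyU⟩
  let q := (hU.primeIdealOf ⟨y, hyU⟩).asIdeal
  let I := RingHom.ker (algebraMap Γ(X, U) (X.presheaf.stalk y))
  haveI : I.IsPrime := RingHom.ker_isPrime _
  obtain ⟨G, hG⟩ := IsNoetherian.noetherian (R := Γ(X, U)) (M := Γ(X, U)) I
  have hker : ∀ x ∈ G, ∃ t : q.primeCompl, (t : Γ(X, U)) * x = 0 := fun x hx => by
    have hxI : x ∈ I := by rw [← hG]; exact Ideal.subset_span hx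
    exact (IsLocalization.map_eq_zero_iff q.primeCompl (X.presheaf.stalk y) x).mp hxI
  choose t ht using hker
  let T : q.primeCompl := ∏ x : G, t x.1 x.2
  have hT : ∀ x ∈ I, (T : Γ(X, U)) * x = 0 := fun x hx => by
    rw [← hG] at hx
    induction hx using Submodule.span_induction with
    | mem z hz =>
      obtain ⟨w, hw⟩ := Finset.dvd_prod_of_mem (fun x : G => t x.1 x.2) (Finset.mem_univ ⟨z, hz⟩)
      rw [show T = t z hz * w from hw, Submonoid.coe_mul, mul_comm (t z hz : Γ(X, U)), mul_assoc, ht, mul_zero]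
    | zero => exact mul_zero _
    | add a b _ _ ha hb => rw [mul_add, ha, hb, add_zero]
    | smul a b _ hb => rw [smul_eq_mul, mul_left_comm, hb, mul_zero]
  have hTI : (T : Γ(X, U)) ∉ I := fun h =>
    (IsLocalization.map_units (X.presheaf.stalk y) T).ne_zero h
  have hTy : y ∈ X.basicOpen (T : Γ(X, U)) :=
    (X.mem_basicOpen _ y hyU).mpr (IsLocalization.map_units (X.presheaf.stalk y) T)
  let V := X.basicOpen (T : Γ(X, U))
  refine ⟨V, hU.basicOpen _, hTy, (X.basicOpen_le _).trans hUW, ?_⟩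
  haveI : IsLocalization.Away (T : Γ(X, U)) Γ(X, V) := hU.isLocalization_basicOpen _
  haveI : Nontrivial Γ(X, V) := nontrivial_of_mem hTy
  have hzero : ∀ a : Γ(X, U), algebraMap Γ(X, U) Γ(X, V) a = 0 ↔ a ∈ I := by
    intro a
    rw [IsLocalization.map_eq_zero_iff (Submonoid.powers (T : Γ(X, U))) Γ(X, V)]
    constructor
    · rintro ⟨⟨_, k, rfl⟩, hk⟩
      exact (‹I.IsPrime›.mem_or_mem (show (T : Γ(X, U)) ^ k * a ∈ I by
        rw [show (T : Γ(X, U)) ^ k * a = 0 from hk]; exact I.zero_mem)).resolve_left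
        fun h => hTI (‹I.IsPrime›.mem_of_pow_mem k h)
    · exact fun h => ⟨⟨T, Submonoid.mem_powers _⟩, hT a h⟩
  haveI : NoZeroDivisors Γ(X, V) := ⟨fun {a b} hab => by
    obtain ⟨a', u, rfl⟩ := IsLocalization.exists_mk'_eq (Submonoid.powers (T : Γ(X, U))) a
    obtain ⟨b', v, rfl⟩ := IsLocalization.exists_mk'_eq (Submonoid.powers (T : Γ(X, U))) b
    rw [← IsLocalization.mk'_mul, IsLocalization.mk'_eq_zero_iff] at hab
    obtain ⟨w, hw⟩ := hab
    have hab' : a' * b' ∈ I := (hzero _).mp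
      ((IsLocalization.map_eq_zero_iff (Submonoid.powers (T : Γ(X, U))) Γ(X, V) _).mpr ⟨w, hw⟩)
    rcases ‹I.IsPrime›.mem_or_mem hab' with h | h
    · exact Or.inl (IsLocalization.mk'_eq_zero_iff _ _ |>.mpr
        ((IsLocalization.map_eq_zero_iff (Submonoid.powers (T : Γ(X, U))) Γ(X, V) _).mp ((hzero _).mpr h)))
    · exact Or.inr (IsLocalization.mk'_eq_zero_iff _ _ |>.mpr
        ((IsLocalization.map_eq_zero_iff (Submonoid.powers (T : Γ(X, U))) Γ(X, V) _).mp ((hzero _).mpr h)))⟩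
  exact NoZeroDivisors.to_isDomain _

theorem res_injective_of_meets [IsReduced X] {W W' : X.Opens} (hle : W' ≤ W)
    (h : ∀ V : X.Opens, V ≤ W → (V : Set X).Nonempty → ((V ⊓ W' : X.Opens) : Set X).Nonempty) :
    Function.Injective (res hle : Γ(X, W) →+* Γ(X, W')) := by
  refine (injective_iff_map_eq_zero _).mpr fun s hs => (basicOpen_eq_bot_iff s).mp ?_
  by_contra hne
  obtain ⟨x, hx1, hx2⟩ := h _ (X.basicOpen_le s) ((Opens.ne_bot_iff_nonempty _).mp hne)
  have hx : x ∈ X.basicOpen (res hle s) := by rw [Scheme.basicOpen_res]; exact ⟨hx2, hx1⟩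
  rw [hs, Scheme.basicOpen_zero] at hx
  exact hx

variable (g) in
/-- The open of points near which `g_* O` has a frame. -/
def frameOpen : X.Opens :=
  ⟨{x | ∃ (T : X.Opens) (n : ℕ) (e : Fin n → Γ(X', g ⁻¹ᵁ T)), x ∈ T ∧ IsRingFrame g T e},
    isOpen_iff_forall_mem_open.mpr fun _ ⟨T, n, e, hx, he⟩ =>
      ⟨T, fun _ hy => ⟨T, n, e, hy, he⟩, T.2, hx⟩⟩

theorem mem_frameOpen_of_free [IsLocallyNoetherian X] [IsFinite g] {x : X}
    (h : Module.Free (X.presheaf.stalk x) (((Coh.push g).obj (Coh.structureModule X')).presheaf.stalk x)) :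
    x ∈ frameOpen g := by
  obtain ⟨T, n, e, hx, he⟩ := Ref1.exists_frame_of_free (hasRel_push g) h
  exact ⟨T, n, e, hx, fun W hW => he W hW⟩

theorem nonempty_inf_frameOpen [IsLocallyNoetherian X] [IsReduced X] [IsFinite g] {V : X.Opens}
    (hV : (V : Set X).Nonempty) : ((V ⊓ frameOpen g : X.Opens) : Set X).Nonempty := by
  obtain ⟨x, hx⟩ := hV
  have hirr := isIrreducible_irreducibleComponent (x := x)
  obtain ⟨η, hη⟩ := QuasiSober.sober hirr isClosed_irreducibleComponent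
  have hηx : η ⤳ x := hη.specializes mem_irreducibleComponent
  refine ⟨η, hηx.mem_open V.2 hx, mem_frameOpen_of_free ?_⟩
  have hmax : ∀ z : X, z ⤳ η → z = η := fun z hz => by
    have hsub : irreducibleComponent x ⊆ closure {z} := by
      rw [← hη.def]
      exact hz.closure_subset
    have := eq_irreducibleComponent (isIrreducible_singleton.closure).2 hsub
    exact (IsGenericPoint.eq (show IsGenericPoint z (irreducibleComponent x) from this) hη)
  haveI : IsReduced X := inferInstance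
  letI := (GrpdQuot.isField_stalk_of_generic η hmax).toField
  exact Module.Free.of_divisionRing (X.presheaf.stalk η) _

/-- A finite system of frames covering the frame locus, with the norms of their ranks dividing `M`. -/
structure FrameSys (g : X' ⟶ X) where
  /-- the index type -/
  κ : Type u
  /-- the opens -/
  T : κ → X.Opens
  /-- the ranks -/
  n : κ → ℕ
  /-- the frames -/
  e : ∀ k, Fin (n k) → Γ(X', g ⁻¹ᵁ T k)
  /-- the degree -/
  M : ℕ
  isFrame : ∀ k, IsRingFrame g (T k) (e k)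
  n_pos : ∀ k, 0 < n k
  M_pos : 0 < M
  dvd : ∀ k, n k ∣ M
  cover : frameOpen g = ⨆ k, T k

theorem pos_of_frame [Surjective g] {T : X.Opens} {n : ℕ} {e : Fin n → Γ(X', g ⁻¹ᵁ T)}
    (he : IsRingFrame g T e) {x : X} (hx : x ∈ T) : 0 < n := by
  by_contra hc
  have hn0 : n = 0 := by omega
  obtain ⟨z, hz⟩ := g.surjective x
  haveI : Nontrivial Γ(X', g ⁻¹ᵁ T) :=
    nontrivial_of_mem (x := z) (show g z ∈ T by rw [hz]; exact hx)
  haveI : IsEmpty (Fin n) := by rw [hn0]; infer_instance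
  obtain ⟨r, hr⟩ := (he T le_rfl).2 1
  simp at hr

theorem exists_frameSys [IsNoetherian X] [Surjective g] : Nonempty (FrameSys g) := by
  classical
  have hmem : ∀ x : frameOpen g, ∃ (T : X.Opens) (n : ℕ) (e : Fin n → Γ(X', g ⁻¹ᵁ T)),
      x.1 ∈ T ∧ IsRingFrame g T e := fun x => x.2
  choose T n e hxT he using hmem
  obtain ⟨s, hs⟩ := (NoetherianSpace.isCompact (frameOpen g : Set X)).elim_finite_subcover
    (fun x => (T x : Set X)) (fun x => (T x).2) fun x hx => Set.mem_iUnion.mpr ⟨⟨x, hx⟩, hxT ⟨x, hx⟩⟩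
  refine ⟨⟨s, fun k => T k.1, fun k => n k.1, fun k => e k.1, ∏ k ∈ s, n k, fun k => he k.1,
    fun k => pos_of_frame (he k.1) (hxT k.1), Finset.prod_pos fun k _ => pos_of_frame (he k) (hxT k),
    fun k => Finset.dvd_prod_of_mem _ k.2, ?_⟩⟩
  refine le_antisymm (fun x hx => ?_) (iSup_le fun k y hy => ⟨_, _, e k.1, hy, he k.1⟩)
  obtain ⟨k, hk, hxk⟩ := Set.mem_iUnion₂.mp (hs hx)
  exact Opens.mem_iSup.mpr ⟨⟨k, hk⟩, hxk⟩

namespace FrameSys

variable (σ : FrameSys g)

theorem inf_cover (W : X.Opens) : W ⊓ frameOpen g ≤ ⨆ k, W ⊓ σ.T k := by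
  rw [← inf_iSup_eq, ← σ.cover]

theorem T_le (k : σ.κ) : σ.T k ≤ frameOpen g := by
  rw [σ.cover]; exact le_iSup σ.T k

theorem existsUnique_NF (W : X.Opens) (a : Γ(X', g ⁻¹ᵁ W)) :
    ∃! b : Γ(X, W ⊓ frameOpen g), ∀ k, res (inf_le_inf_left W (σ.T_le k)) b =
      nrm g σ.M (W ⊓ σ.T k) (res (g.preimage_mono inf_le_left) a) := by
  obtain ⟨b, hb, huniq⟩ := TopCat.Sheaf.existsUnique_gluing' X.sheaf (fun k => W ⊓ σ.T k)
    (W ⊓ frameOpen g) (fun k => homOfLE (inf_le_inf_left W (σ.T_le k))) (σ.inf_cover W)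
    (fun k => nrm g σ.M (W ⊓ σ.T k) (res (g.preimage_mono inf_le_left) a)) fun k l => by
      show res (inf_le_left : (W ⊓ σ.T k) ⊓ (W ⊓ σ.T l) ≤ _) _ = res inf_le_right _
      rw [res_nrm (σ.isFrame k) inf_le_right, res_nrm (σ.isFrame l) inf_le_right, res_res, res_res]
  exact ⟨b, hb, fun b' hb' => huniq b' hb'⟩

/-- The norm over the frame locus. -/
def NF (W : X.Opens) (a : Γ(X', g ⁻¹ᵁ W)) : Γ(X, W ⊓ frameOpen g) :=
  (σ.existsUnique_NF W a).choose

theorem NF_spec (W : X.Opens) (a : Γ(X', g ⁻¹ᵁ W)) (k : σ.κ) :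
    res (inf_le_inf_left W (σ.T_le k)) (σ.NF W a) =
      nrm g σ.M (W ⊓ σ.T k) (res (g.preimage_mono inf_le_left) a) :=
  (σ.existsUnique_NF W a).choose_spec.1 k

theorem NF_eq {W : X.Opens} {a : Γ(X', g ⁻¹ᵁ W)} {b : Γ(X, W ⊓ frameOpen g)}
    (h : ∀ k, res (inf_le_inf_left W (σ.T_le k)) b =
      nrm g σ.M (W ⊓ σ.T k) (res (g.preimage_mono inf_le_left) a)) : b = σ.NF W a :=
  (σ.existsUnique_NF W a).choose_spec.2 b h

theorem NF_mul (W : X.Opens) (a b : Γ(X', g ⁻¹ᵁ W)) : σ.NF W (a * b) = σ.NF W a * σ.NF W b :=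
  (σ.NF_eq fun k => by rw [map_mul, σ.NF_spec, σ.NF_spec, map_mul, nrm_mul]).symm

theorem NF_app (W : X.Opens) (r : Γ(X, W)) :
    σ.NF W ((g.app W).hom r) = res inf_le_left r ^ σ.M :=
  (σ.NF_eq fun k => by
    rw [map_pow, res_res, app_res inf_le_left, nrm_app (σ.isFrame k) (σ.dvd k) inf_le_right]).symm

theorem res_NF {W W' : X.Opens} (hle : W' ≤ W) (a : Γ(X', g ⁻¹ᵁ W)) :
    res (inf_le_inf_right _ hle) (σ.NF W a) = σ.NF W' (res (g.preimage_mono hle) a) := by
  refine σ.NF_eq fun k => ?_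
  rw [res_res, ← res_res (inf_le_inf_left W (σ.T_le k)) (inf_le_inf_right _ hle), σ.NF_spec,
    res_nrm (σ.isFrame k) inf_le_right, res_res, res_res]

theorem mem_basicOpen_NF [IsFinite g] {W : X.Opens} (a : Γ(X', g ⁻¹ᵁ W)) {x : X} (hx : x ∈ W ⊓ frameOpen g) :
    x ∈ X.basicOpen (σ.NF W a) ↔ ∀ z : X', g z = x → z ∈ X'.basicOpen a := by
  obtain ⟨k, hk⟩ := Opens.mem_iSup.mp (σ.inf_cover W hx)
  have h := mem_basicOpen_nrm σ.M_pos (σ.isFrame k) (σ.dvd k) (inf_le_right : W ⊓ σ.T k ≤ _)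
    (res (g.preimage_mono inf_le_left) a) hk
  rw [← σ.NF_spec, Scheme.basicOpen_res] at h
  refine ⟨fun hN z hz => ?_, fun hz => (h.mpr fun z hzx => ?_).2⟩
  · have := h.mp ⟨hk, hN⟩ z hz
    rw [Scheme.basicOpen_res] at this
    exact this.2
  · rw [Scheme.basicOpen_res]
    exact ⟨show g z ∈ W ⊓ σ.T k by rw [hzx]; exact hk, hz z hzx⟩

/-- The norm over the frame locus extends near a point whose local ring is a normal domain, and vanishes
there if the argument vanishes on the fibre. -/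
theorem exists_extend_normal [IsLocallyNoetherian X] [IsReduced X] [IsFinite g] {W : X.Opens}
    (a : Γ(X', g ⁻¹ᵁ W)) {y : X} (hy : y ∈ W) (hd : IsDomain (X.presheaf.stalk y))
    (hn : IsIntegrallyClosed (X.presheaf.stalk y)) :
    ∃ (V : X.Opens) (hV : V ≤ W) (s : Γ(X, V)), y ∈ V ∧
      res inf_le_left s = res (inf_le_inf_right _ hV) (σ.NF W a) ∧
      (y ∈ X.basicOpen s → ∃ z : X', g z = y ∧ z ∈ X'.basicOpen a) := by
  classical
  obtain ⟨U, hU, hyU, hUW, hdom⟩ := exists_domain_nhd hd hy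
  obtain ⟨x₀, hx₀U, hx₀F⟩ := nonempty_inf_frameOpen (g := g) (V := U) ⟨y, hyU⟩
  obtain ⟨k, hk⟩ := Opens.mem_iSup.mp (σ.inf_cover U ⟨hx₀U, hx₀F⟩)
  obtain ⟨r, hrle, hxr⟩ := hU.exists_basicOpen_le (V := σ.T k) ⟨x₀, hk.2⟩ hx₀U
  let D := X.basicOpen r
  have hDU : D ≤ U := X.basicOpen_le r
  have hr0 : r ≠ 0 := fun h => by rw [h, Scheme.basicOpen_zero] at hxr; exact hxr
  have hmeet : ∀ V : X.Opens, V ≤ U → (V : Set X).Nonempty → ((V ⊓ D : X.Opens) : Set X).Nonempty := by
    rintro V hV ⟨x, hx⟩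
    obtain ⟨u, hu, hxu⟩ := hU.exists_basicOpen_le (V := V) ⟨x, hx⟩ (hV hx)
    have hu0 : u ≠ 0 := fun h => by rw [h, Scheme.basicOpen_zero] at hxu; exact hxu
    obtain ⟨w, hw⟩ := (Opens.ne_bot_iff_nonempty _).mp
      (fun h => mul_ne_zero hu0 hr0 ((basicOpen_eq_bot_iff (u * r)).mp h))
    rw [Scheme.basicOpen_mul] at hw
    exact ⟨w, hu hw.1, hw.2⟩
  have hinjU : Function.Injective (res hDU : Γ(X, U) →+* Γ(X, D)) := res_injective_of_meets hDU hmeet
  -- algebra
  letI := (g.app U).hom.toAlgebra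
  letI := (g.app D).hom.toAlgebra
  haveI : Module.Finite Γ(X, U) Γ(X', g ⁻¹ᵁ U) := g.finite_app U hU
  haveI : Nontrivial Γ(X, D) := nontrivial_of_mem hxr
  haveI hloc : IsLocalization.Away r Γ(X, D) := hU.isLocalization_basicOpen r
  let K := FractionRing Γ(X, U)
  have hrK : IsUnit (algebraMap Γ(X, U) K r) :=
    IsUnit.mk0 _ ((map_ne_zero_iff _ (IsFractionRing.injective Γ(X, U) K)).mpr hr0)
  let ι : Γ(X, D) →+* K := IsLocalization.Away.lift (S := Γ(X, D)) r hrK
  have hι : ∀ x, ι (res hDU x) = algebraMap Γ(X, U) K x := fun x => IsLocalization.Away.lift_eq r hrK x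
  have hιinj : Function.Injective ι := by
    refine (IsLocalization.lift_injective_iff _).mpr fun x z => ⟨fun h => ?_, fun h => ?_⟩
    · rw [hinjU (show res hDU x = res hDU z from h)]
    · rw [IsFractionRing.injective Γ(X, U) K h]
  let b := (σ.isFrame k).basis D hrle
  let aU : Γ(X', g ⁻¹ᵁ U) := res (g.preimage_mono hUW) a
  let ψ₀ : Γ(X', g ⁻¹ᵁ U) →+* Matrix (Fin (σ.n k)) (Fin (σ.n k)) K :=
    (ι.mapMatrix).comp ((Algebra.leftMulMatrix b).toRingHom.comp (res (g.preimage_mono hDU)))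
  let ψ : Γ(X', g ⁻¹ᵁ U) →ₐ[Γ(X, U)] Matrix (Fin (σ.n k)) (Fin (σ.n k)) K :=
    { ψ₀ with
      commutes' := fun x => by
        show ι.mapMatrix (Algebra.leftMulMatrix b (res (g.preimage_mono hDU) ((g.app U).hom x))) = _
        rw [app_res hDU, show (g.app D).hom (res hDU x) = algebraMap Γ(X, D) _ (res hDU x) from rfl,
          AlgHom.commutes, Matrix.algebraMap_eq_diagonal, Matrix.algebraMap_eq_diagonal]
        simp only [RingHom.mapMatrix_apply]
        rw [Matrix.diagonal_map (map_zero ι)]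
        congr 1
        funext i
        exact hι x }
  have hdet : (ψ aU).det =
      ι (Algebra.norm Γ(X, D) (res (g.preimage_mono (hDU.trans hUW)) a)) := by
    show (ι.mapMatrix (Algebra.leftMulMatrix b (res (g.preimage_mono hDU) aU))).det = _
    rw [← RingHom.map_det, ← Algebra.norm_eq_matrix_det b, res_res]
  let y' : (U : Set X) := ⟨y, hyU⟩
  let q := (hU.primeIdealOf y').asIdeal
  letI := TopCat.Presheaf.algebra_section_stalk X.presheaf (⟨y, hyU⟩ : U)
  haveI := hU.isLocalization_stalk ⟨y, hyU⟩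
  haveI : IsIntegrallyClosed (Localization.AtPrime q) :=
    IsIntegrallyClosed.of_equiv
      (IsLocalization.algEquiv q.primeCompl (X.presheaf.stalk y) (Localization.AtPrime q)).toRingEquiv
  have hkpos : 0 < σ.M / σ.n k := Nat.div_pos (Nat.le_of_dvd σ.M_pos (σ.dvd k)) (σ.n_pos k)
  obtain ⟨s, t, htq, hrel, hvan⟩ := exists_det_eq ψ q aU (σ.M / σ.n k)
  have hDF : D ≤ U ⊓ frameOpen g := le_inf hDU (hrle.trans (σ.T_le k))
  have h1 : res inf_le_left t * σ.NF U aU = res inf_le_left s := by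
    have hD : res hDU t * nrm g σ.M D (res (g.preimage_mono hDU) aU) = res hDU s := by
      apply hιinj
      rw [map_mul, hι, hι, nrm, Module.finrank_eq_card_basis b, Fintype.card_fin, map_pow, res_res, ← hdet]
      exact hrel
    refine res_injective_of_meets hDF (fun V hV hne => hmeet V (hV.trans inf_le_left) hne) ?_
    rw [map_mul, res_res, res_res,
      ← res_res (inf_le_inf_left U (σ.T_le k)) (le_inf hDU hrle), σ.NF_spec,
      res_nrm (σ.isFrame k) inf_le_right, res_res]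
    exact hD
  have hyt : y ∈ X.basicOpen t := by
    refine (X.mem_basicOpen t y hyU).mpr ?_
    exact IsLocalization.map_units (X.presheaf.stalk y) (⟨t, htq⟩ : q.primeCompl)
  let V := X.basicOpen t
  have hVU : V ≤ U := X.basicOpen_le t
  obtain ⟨v, hv⟩ := isUnit_res_of_le t hVU le_rfl
  refine ⟨V, hVU.trans hUW, ↑v⁻¹ * res hVU s, hyt, ?_, ?_⟩
  · have h2 := congrArg (res (inf_le_inf_right (frameOpen g) hVU)) h1
    rw [map_mul, res_res, res_res, σ.res_NF hVU, res_res] at h2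
    rw [σ.res_NF (hVU.trans hUW), map_mul, res_res, ← h2,
      ← res_res hVU (inf_le_left : V ⊓ frameOpen g ≤ V) t, ← hv, ← mul_assoc, ← map_mul,
      Units.inv_mul, map_one, one_mul]
  · intro hys
    by_contra hno
    push Not at hno
    rw [Scheme.basicOpen_mul, Scheme.basicOpen_res] at hys
    have hsq : s ∉ q := fun h => by
      have hu : IsUnit (algebraMap Γ(X, U) (X.presheaf.stalk y) s) := (X.mem_basicOpen s y hyU).mp hys.2.2
      exact (IsLocalization.AtPrime.isUnit_to_map_iff (X.presheaf.stalk y) q s).mp hu h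
    refine hsq ?_
    have hex : ∃ u : Γ(X, U), u ∉ q ∧ ∃ m : ℕ,
        algebraMap Γ(X, U) Γ(X', g ⁻¹ᵁ U) u * aU ^ m ∈ q.map (algebraMap Γ(X, U) Γ(X', g ⁻¹ᵁ U)) := by
      by_contra hcon
      push Not at hcon
      let S₀ : Submonoid Γ(X', g ⁻¹ᵁ U) :=
        q.primeCompl.map (algebraMap Γ(X, U) Γ(X', g ⁻¹ᵁ U)) ⊔ Submonoid.powers aU
      have hdisj : Disjoint (q.map (algebraMap Γ(X, U) Γ(X', g ⁻¹ᵁ U)) : Set Γ(X', g ⁻¹ᵁ U)) S₀ := by
        rw [Set.disjoint_right]
        intro x hx hxq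
        obtain ⟨_, ⟨u, hu, rfl⟩, _, ⟨m, rfl⟩, rfl⟩ := Submonoid.mem_sup.mp hx
        exact hcon u hu m hxq
      obtain ⟨Q, hQ, hqQ, hQS⟩ := Ideal.exists_le_prime_disjoint _ S₀ hdisj
      have hV : IsAffineOpen (g ⁻¹ᵁ U) := hU.preimage g
      let z := hV.fromSpec ⟨Q, hQ⟩
      have hzV : z ∈ g ⁻¹ᵁ U := hV.range_fromSpec.subset ⟨_, rfl⟩
      have hpz : hV.primeIdealOf ⟨z, hzV⟩ = ⟨Q, hQ⟩ :=
        hV.fromSpec.isOpenEmbedding.injective (hV.fromSpec_primeIdealOf ⟨z, hzV⟩)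
      have hcomap : Q.comap (algebraMap Γ(X, U) Γ(X', g ⁻¹ᵁ U)) = q := by
        refine le_antisymm (fun x hx => ?_) (Ideal.map_le_iff_le_comap.mp hqQ)
        by_contra hxq
        exact Set.disjoint_left.mp hQS hx (Submonoid.mem_sup_left ⟨x, hxq, rfl⟩)
      have hgz : g z = y := by
        have e := IsAffineOpen.comap_primeIdealOf_appLE (f := g) U hU (g ⁻¹ᵁ U) hV le_rfl hzV
        rw [hpz, ← Scheme.Hom.app_eq_appLE] at e
        have e' : hU.primeIdealOf ⟨g z, hzV⟩ = hU.primeIdealOf ⟨y, hyU⟩ := by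
          rw [← e]; exact PrimeSpectrum.ext hcomap
        have := congrArg hU.fromSpec e'
        rwa [hU.fromSpec_primeIdealOf, hU.fromSpec_primeIdealOf] at this
      have hza : (⟨Q, hQ⟩ : PrimeSpectrum Γ(X', g ⁻¹ᵁ U)) ∈ PrimeSpectrum.basicOpen aU :=
        fun h => Set.disjoint_left.mp hQS h (Submonoid.mem_sup_right (Submonoid.mem_powers aU))
      rw [← hV.fromSpec_preimage_basicOpen, Scheme.basicOpen_res] at hza
      exact hno z hgz hza.2
    obtain ⟨u, hu, m, hm⟩ := hex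
    exact hvan (σ.n_pos k) hkpos u m hu hm

variable [IsLocallyNoetherian X] [IsReduced X] [IsFinite g]

theorem res_frameOpen_injective (g : X' ⟶ X) [IsFinite g] (W : X.Opens) :
    Function.Injective (res inf_le_left : Γ(X, W) →+* Γ(X, W ⊓ frameOpen g)) :=
  res_injective_of_meets inf_le_left fun V hV hne => by
    obtain ⟨x, hx, hxF⟩ := nonempty_inf_frameOpen (g := g) hne
    exact ⟨x, hx, hV hx, hxF⟩

theorem exists_N (hW : ∀ x : X, (IsDomain (X.presheaf.stalk x) ∧ IsIntegrallyClosed (X.presheaf.stalk x)) ∨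
    x ∈ frameOpen g) (W : X.Opens) (a : Γ(X', g ⁻¹ᵁ W)) :
    ∃ s : Γ(X, W), res inf_le_left s = σ.NF W a := by
  have hloc : ∀ y : W, ∃ (V : X.Opens) (hV : V ≤ W) (s : Γ(X, V)), y.1 ∈ V ∧
      res inf_le_left s = res (inf_le_inf_right _ hV) (σ.NF W a) := by
    intro y
    rcases hW y.1 with ⟨hd, hn⟩ | hF
    · obtain ⟨V, hV, s, h1, h2, -⟩ := σ.exists_extend_normal a y.2 hd hn
      exact ⟨V, hV, s, h1, h2⟩
    · exact ⟨W ⊓ frameOpen g, inf_le_left, σ.NF W a, ⟨y.2, hF⟩, rfl⟩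
  choose V hV s hyV hs using hloc
  obtain ⟨t, ht, -⟩ := TopCat.Sheaf.existsUnique_gluing' X.sheaf V W (fun y => homOfLE (hV y))
    (fun y hy => Opens.mem_iSup.mpr ⟨⟨y, hy⟩, hyV ⟨y, hy⟩⟩) s fun i j => by
      show res (inf_le_left : V i ⊓ V j ≤ _) (s i) = res inf_le_right (s j)
      apply res_frameOpen_injective g (V i ⊓ V j)
      rw [res_res, res_res,
        ← res_res (inf_le_left : V i ⊓ frameOpen g ≤ _)
          (inf_le_inf_right (frameOpen g) (inf_le_left : V i ⊓ V j ≤ V i)),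
        ← res_res (inf_le_left : V j ⊓ frameOpen g ≤ _)
          (inf_le_inf_right (frameOpen g) (inf_le_right : V i ⊓ V j ≤ V j)), hs, hs, res_res, res_res]
  let t' : Γ(X, W) := t
  refine ⟨t', ?_⟩
  refine TopCat.Sheaf.eq_of_locally_eq' X.sheaf (fun y => V y ⊓ frameOpen g) (W ⊓ frameOpen g)
    (fun y => homOfLE (inf_le_inf_right _ (hV y)))
    (fun x hx => Opens.mem_iSup.mpr ⟨⟨x, hx.1⟩, hyV ⟨x, hx.1⟩, hx.2⟩) _ _ fun y => ?_
  show res _ (res _ t') = res _ (σ.NF W a)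
  rw [← hs y, res_res, ← show res (hV y) t' = s y from ht y, res_res]

/-- The norm on all opens. -/
def Nv (hW : ∀ x : X, (IsDomain (X.presheaf.stalk x) ∧ IsIntegrallyClosed (X.presheaf.stalk x)) ∨
    x ∈ frameOpen g) (W : X.Opens) (a : Γ(X', g ⁻¹ᵁ W)) : Γ(X, W) :=
  (σ.exists_N hW W a).choose

theorem res_Nv (hW : ∀ x : X, (IsDomain (X.presheaf.stalk x) ∧ IsIntegrallyClosed (X.presheaf.stalk x)) ∨
    x ∈ frameOpen g) (W : X.Opens) (a : Γ(X', g ⁻¹ᵁ W)) : res inf_le_left (σ.Nv hW W a) = σ.NF W a :=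
  (σ.exists_N hW W a).choose_spec

/-- Norm data over all opens of a reduced scheme all whose points are normal or in the frame locus. -/
def normData (hW : ∀ x : X, (IsDomain (X.presheaf.stalk x) ∧ IsIntegrallyClosed (X.presheaf.stalk x)) ∨
    x ∈ frameOpen g) [Surjective g] (c : Cocycle X) : NormData g c where
  deg := σ.M
  deg_pos := σ.M_pos
  N W _ a := σ.Nv hW W a
  map_mul W _ a b := by
    apply res_frameOpen_injective g W
    rw [map_mul, σ.res_Nv hW W, σ.res_Nv hW W,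
      σ.res_Nv hW W, σ.NF_mul]
  map_app W _ r := by
    apply res_frameOpen_injective g W
    rw [map_pow, σ.res_Nv hW W, σ.NF_app]
  res_N W W' hle _ _ a := by
    apply res_frameOpen_injective g W'
    rw [σ.res_Nv hW W', ← σ.res_NF hle, ← σ.res_Nv hW W a, res_res, res_res]
  mem_of_forall W _ a x hx hz := by
    -- `a` is a unit over a neighbourhood of the fibre
    have hcl : IsClosed (g '' ((X'.basicOpen a : Set X')ᶜ)) :=
      g.isClosedMap _ (X'.basicOpen a).2.isClosed_compl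
    let W₀ : X.Opens := W ⊓ ⟨_, hcl.isOpen_compl⟩
    have hx₀ : x ∈ W₀ := ⟨hx, fun ⟨z, hz', hzx⟩ => hz' (hz z hzx)⟩
    have hle : W₀ ≤ W := inf_le_left
    have hsub : g ⁻¹ᵁ W₀ ≤ X'.basicOpen a := by
      intro z hz0
      by_contra hz'
      exact hz0.2 ⟨z, hz', rfl⟩
    obtain ⟨v, hv⟩ := isUnit_res_of_le a (g.preimage_mono hle) hsub
    have hN : res hle (σ.Nv hW W a) = σ.Nv hW W₀ ↑v := by
      apply res_frameOpen_injective g W₀
      rw [σ.res_Nv hW W₀, hv, ← σ.res_NF hle, ← σ.res_Nv hW W a,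
        res_res, res_res]
    have h1 : σ.Nv hW W₀ ↑v * σ.Nv hW W₀ ↑v⁻¹ = 1 := by
      apply res_frameOpen_injective g W₀
      rw [map_mul, σ.res_Nv hW W₀, σ.res_Nv hW W₀, ← σ.NF_mul,
        Units.mul_inv, map_one, ← map_one (g.app W₀).hom, σ.NF_app, map_one, one_pow]
    have h2 := X.basicOpen_of_isUnit (IsUnit.of_mul_eq_one _ h1)
    rw [← hN, Scheme.basicOpen_res] at h2
    rw [← h2] at hx₀
    exact hx₀.2
  exists_of_mem W _ a x hx hN := by
    have hspec := σ.res_Nv hW W a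
    rcases hW x with ⟨hd, hn⟩ | hF
    · obtain ⟨V, hV, s, hxV, hs, hvan⟩ := σ.exists_extend_normal a hx hd hn
      refine hvan ?_
      have e : res hV (σ.Nv hW W a) = s := by
        apply res_frameOpen_injective g V
        rw [hs, ← hspec, res_res, res_res]
      rw [← e, Scheme.basicOpen_res]
      exact ⟨hxV, hN⟩
    · obtain ⟨z, hz⟩ := g.surjective x
      refine ⟨z, hz, (σ.mem_basicOpen_NF a ⟨hx, hF⟩).mp ?_ z hz⟩
      rw [← hspec, Scheme.basicOpen_res]
      exact ⟨⟨hx, hF⟩, hN⟩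

end FrameSys

/-- Ampleness descends along finite surjective morphisms to reduced Noetherian schemes all whose points
are normal or have locally free direct image. -/
theorem isAmple_of_pullback_normal [IsNoetherian X] [IsReduced X] [IsFinite g] [Surjective g]
    (hW : ∀ x : X, (IsDomain (X.presheaf.stalk x) ∧ IsIntegrallyClosed (X.presheaf.stalk x)) ∨
      ∃ T : X.Opens, x ∈ T ∧
        FlatMod.IsFinLocFree (((Coh.push g).obj (Coh.structureModule X')).restrict T.ι))
    {L : X.Modules} (hL : PicF.IsInvertible L) (h : CohB1.IsAmple ((Scheme.Modules.pullback g).obj L)) :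
    CohB1.IsAmple L := by
  obtain ⟨σ⟩ := exists_frameSys (g := g)
  obtain ⟨c, ⟨d⟩⟩ := exists_cocycle hL
  obtain ⟨d'⟩ := c.nonempty_pullback_iso g d
  have hW' : ∀ x : X, (IsDomain (X.presheaf.stalk x) ∧ IsIntegrallyClosed (X.presheaf.stalk x)) ∨
      x ∈ frameOpen g := fun x => (hW x).imp_right fun ⟨T, hxT, hT⟩ =>
    mem_frameOpen_of_free (Ref1.free_of_isFinLocFree_restrict T hT x hxT)
  haveI : CompactSpace X := IsNoetherian.toCompactSpace
  exact (c.isAmple_iff d).mpr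
    ⟨inferInstance, isAmp_of_normData (σ.normData hW' c) (((c.comap g).isAmple_iff d').mp h).2⟩

end GrothLib.NormAmple
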