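import Groth.Agent.Lib.NormAmple.Norm

/-!
# Descent of ampleness along finite surjective morphisms with a norm
-/

universe u

set_option backward.isDefEq.respectTransparency false

open AlgebraicGeometry CategoryTheory CategoryTheory.Limits TopologicalSpace Opposite
open GrothLib.Ample GrothLib.InvExt

noncomputable section

namespace GrothLib.NormAmple

variable {X X' Y : Scheme.{u}} {g : X' ⟶ X}

/-- Descent of ampleness of a cocycle along a morphism with a norm. -/
theorem isAmp_of_normData [IsFinite g] [Surjective g] {c : Cocycle X} (ν : NormData g c)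
    [CompactSpace X] (h : (c.comap g).IsAmp) : c.IsAmp := by
  haveI : CompactSpace X' := QuasiCompact.compactSpace_of_compactSpace g
  intro p
  obtain ⟨i₀, W, hpW, -, hW⟩ := c.exists_affine_le_D p
  obtain ⟨n, a, hZ, haW, -⟩ := (c.comap g).exists_affine_locus_finite h
    (g.finite_preimage_singleton p) (U := g ⁻¹ᵁ W) (by rintro z hz; show g z ∈ W; rw [Set.mem_singleton_iff.mp hz]; exact hpW)
  have hle : ∀ i, g ⁻¹ᵁ ((⊤ : X.Opens) ⊓ c.D i) ≤ (⊤ : X'.Opens) ⊓ g ⁻¹ᵁ c.D i := fun i =>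
    le_inf le_top (g.preimage_mono inf_le_right)
  let b : c.sect (ν.deg * (n + 1)) ⊤ := ⟨fun i => ν.N _ ⟨i, inf_le_right⟩ (res (hle i) (a.1 i)), by
    intro i j V hi hj
    have hVi : V ≤ c.D i := hi.trans inf_le_right
    have hVj : V ≤ c.D j := hj.trans inf_le_right
    rw [ν.res_N _ _ hi _ ⟨i, hVi⟩, ν.res_N _ _ hj _ ⟨i, hVi⟩, res_res, res_res]
    have e := (c.comap g).sect_spec a i j (W := g ⁻¹ᵁ V) ((g.preimage_mono hi).trans (hle i))
      ((g.preimage_mono hj).trans (hle j))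
    erw [e]
    rw [ν.map_mul]
    congr 1
    rw [← c.appLE_G g i j hVi hVj le_rfl, ← map_pow, ← Scheme.Hom.app_eq_appLE, ν.map_app, ← pow_mul,
      mul_comm]⟩
  have hpos : 0 < ν.deg * (n + 1) := mul_pos ν.deg_pos n.succ_pos
  obtain ⟨m, hm⟩ : ∃ m, ν.deg * (n + 1) = m + 1 := ⟨_, (Nat.succ_pred_eq_of_pos hpos).symm⟩
  refine ⟨m, c.sectCast hm b, ?_⟩
  rw [c.locus_sectCast]
  have hloc : ∀ (i : c.ι) (z : X'), z ∈ g ⁻¹ᵁ c.D i →
      (z ∈ (c.comap g).locus a ↔ z ∈ X'.basicOpen (res (hle i) (a.1 i))) := by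
    intro i z hzi
    rw [(c.comap g).mem_locus_iff a (i := i) hzi, Scheme.basicOpen_res]
    exact ⟨fun h => ⟨⟨trivial, hzi⟩, h⟩, fun h => h.2⟩
  refine ⟨?_, c.isAffineOpen_locus_of_le _ hW fun y hy => ?_⟩
  · obtain ⟨i, hi⟩ := c.exists_mem p
    rw [c.mem_locus_iff b hi]
    refine ν.mem_of_forall _ _ (res (hle i) (a.1 i)) p ⟨trivial, hi⟩ fun z hz => ?_
    exact (hloc i z (by show g z ∈ c.D i; rw [hz]; exact hi)).mp (hZ hz)
  · obtain ⟨i, hi⟩ := c.exists_mem y
    rw [c.mem_locus_iff b hi] at hy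
    obtain ⟨z, hz, hza⟩ := ν.exists_of_mem _ _ (res (hle i) (a.1 i)) y ⟨trivial, hi⟩ hy
    rw [← hz]
    exact haW ((hloc i z (by show g z ∈ c.D i; rw [hz]; exact hi)).mpr hza)

/-- An invertible module is the twist of a cocycle subordinate to any given cover. -/
theorem exists_cocycle_le {L : X.Modules} (hL : PicF.IsInvertible L) (T : X → X.Opens)
    (hT : ∀ x, x ∈ T x) : ∃ c : Cocycle X, Nonempty (L ≅ c.twist 1) ∧ ∀ i, ∃ x, c.D i ≤ T x := by
  choose V e hxV he using InvExt.exists_gen_nhd hL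
  let V' : X → X.Opens := fun x => V x ⊓ T x
  have he'' : ∀ x, ∃ e' : Γ(L, V' x), IsGen L (V' x) e' := fun x =>
    ⟨mres L inf_le_left (e x), fun W hW => by
      simp only [mres_mres]
      exact he x W (hW.trans inf_le_left)⟩
  choose e' he' using he''
  choose γ hγ using fun x y : X => (he' x).exists_smul_eq (inf_le_left : V' x ⊓ V' y ≤ V' x)
    (mres L inf_le_right (e' y))
  have hres : ∀ (x y : X) (W : X.Opens) (hx : W ≤ V' x) (hy : W ≤ V' y),
      mres L hy (e' y) = res (le_inf hx hy) (γ x y) • mres L hx (e' x) := by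
    intro x y W hx hy
    have := congrArg (mres L (le_inf hx hy)) (hγ x y)
    rwa [InvExt.mres_mres, mres_smul', InvExt.mres_mres] at this
  let c : Cocycle X :=
    { ι := X
      D := V'
      g := γ
      cover := eq_top_iff.mpr fun x _ => Opens.mem_iSup.mpr ⟨x, hxV x, hT x⟩
      self := fun i W h => (he' i).smul_left_injective h (by rw [← hres i i W h h, one_smul])
      change := fun i j k W hi hj hk => (he' i).smul_left_injective hi (by
        rw [← hres i k W hi hk, hres j k W hj hk, hres i j W hi hj, smul_smul, mul_comm]) }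
  have hm : c.IsFamily 1 (M := L) e' := fun i j W hi hj => by
    rw [pow_one]; exact hres i j W hi hj
  haveI := c.isIso_homOfFamily hm he'
  exact ⟨c, ⟨(asIso (c.homOfFamily hm)).symm⟩, fun i => ⟨i, inf_le_right⟩⟩

/-- Descent of ampleness along a finite surjective morphism with free direct image. -/
theorem isAmple_of_pullback [CompactSpace X] [IsFinite g] [Surjective g]
    (hfr : ∀ x : X, ∃ (T : X.Opens) (n : ℕ) (e : Fin n → Γ(X', g ⁻¹ᵁ T)), x ∈ T ∧ IsRingFrame g T e)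
    {L : X.Modules} (hL : PicF.IsInvertible L) (h : CohB1.IsAmple ((Scheme.Modules.pullback g).obj L)) :
    CohB1.IsAmple L := by
  classical
  choose T n e hxT he using hfr
  have hn : ∀ x, 0 < n x := by
    intro x
    by_contra hc
    have hn0 : n x = 0 := by omega
    obtain ⟨z, hz⟩ := g.surjective x
    have hz' : z ∈ g ⁻¹ᵁ T x := by show g z ∈ T x; rw [hz]; exact hxT x
    haveI : Nontrivial Γ(X', g ⁻¹ᵁ T x) := nontrivial_of_mem hz'
    haveI : IsEmpty (Fin (n x)) := by rw [hn0]; infer_instance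
    obtain ⟨r, hr⟩ := (he x (T x) le_rfl).2 1
    simp at hr
  obtain ⟨s, hs⟩ := isCompact_univ.elim_finite_subcover (fun x => (T x : Set X)) (fun x => (T x).2)
    (fun x _ => Set.mem_iUnion.mpr ⟨x, hxT x⟩)
  have hcov : ∀ y : X, ∃ x ∈ s, y ∈ T x := fun y => by
    have := hs (Set.mem_univ y)
    simpa using this
  choose k hk hky using hcov
  obtain ⟨c, ⟨d⟩, hD⟩ := exists_cocycle_le hL (fun y => T (k y)) hky
  have hM : 0 < ∏ x ∈ s, n x := Finset.prod_pos fun x _ => hn x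
  let ν := NormData.ofFrames (g := g) c hM fun i => by
    obtain ⟨y, hy⟩ := hD i
    exact ⟨_, _, (he (k y)).mono hy, Finset.dvd_prod_of_mem _ (hk y)⟩
  obtain ⟨d'⟩ := c.nonempty_pullback_iso g d
  exact (c.isAmple_iff d).mpr ⟨inferInstance, isAmp_of_normData ν (((c.comap g).isAmple_iff d').mp h).2⟩

theorem IsRingFrame.restrictU {T : X.Opens} {n : ℕ} {e : Fin n → Γ(X', g ⁻¹ᵁ T)} (he : IsRingFrame g T e)
    (U : X.Opens) :
    ∃ e' : Fin n → Γ((g ⁻¹ᵁ U : Scheme.{u}), (g ∣_ U) ⁻¹ᵁ (U.ι ⁻¹ᵁ T)), IsRingFrame (g ∣_ U) (U.ι ⁻¹ᵁ T) e' := by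
  have hpre : ∀ W : (U : Scheme.{u}).Opens, (g ⁻¹ᵁ U).ι ''ᵁ ((g ∣_ U) ⁻¹ᵁ W) = g ⁻¹ᵁ (U.ι ''ᵁ W) :=
    fun W => image_morphismRestrict_preimage g U W
  have himg : ∀ W : (U : Scheme.{u}).Opens, W ≤ U.ι ⁻¹ᵁ T → U.ι ''ᵁ W ≤ T := fun W hW => by
    rintro _ ⟨z, hz, rfl⟩
    exact hW hz
  refine ⟨fun i => res (X := X') ((hpre _).trans_le (g.preimage_mono (himg _ le_rfl))) (e i), fun W hW => ?_⟩
  have hb := he (U.ι ''ᵁ W) (himg W hW)
  have hiso : Function.Bijective (res (X := X') (hpre W).le) := by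
    refine Function.bijective_iff_has_inverse.mpr ⟨res (X := X') (hpre W).ge, fun a => ?_, fun a => ?_⟩ <;>
      rw [res_res, res_self]
  refine Eq.mp (congrArg (Function.Bijective (α := Fin n → Γ(X, U.ι ''ᵁ W))
    (β := Γ(X', (g ⁻¹ᵁ U).ι ''ᵁ ((g ∣_ U) ⁻¹ᵁ W)))) (funext fun r => ?_)) (hiso.comp hb)
  show res (X := X') (hpre W).le (∑ i, (g.app _).hom (r i) * res _ (e i)) = _
  rw [map_sum]
  refine Finset.sum_congr rfl fun i _ => ?_
  rw [map_mul, res_res, morphismRestrict_app]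
  congr 1
  exact (res_res (X := X') ((hpre _).trans_le (g.preimage_mono (himg _ le_rfl)))
    ((g ⁻¹ᵁ U).ι.image_mono ((g ∣_ U).preimage_mono hW)) (e i)).symm

/-- Relative ampleness descends along finite surjective morphisms with locally free direct image. -/
theorem isRelAmple_of_pullback (f : X ⟶ Y) [QuasiCompact f] [IsFinite g] [Surjective g]
    (hfr : ∀ x : X, ∃ (T : X.Opens) (n : ℕ) (e : Fin n → Γ(X', g ⁻¹ᵁ T)), x ∈ T ∧ IsRingFrame g T e)
    {L : X.Modules} (hL : PicF.IsInvertible L)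
    (h : RelAmple.IsRelAmple (g ≫ f) ((Scheme.Modules.pullback g).obj L)) :
    RelAmple.IsRelAmple f L := by
  refine ⟨inferInstance, fun V => ?_⟩
  let U := f ⁻¹ᵁ V.1
  haveI : CompactSpace (U : Scheme.{u}) :=
    isCompact_iff_compactSpace.mp (f.isCompact_preimage V.2.isCompact)
  haveI : Surjective (g ∣_ U) := IsZariskiLocalAtTarget.restrict ‹Surjective g› U
  rw [isAmple_restrict_iff]
  refine isAmple_of_pullback (g := g ∣_ U) (fun x => ?_) (GrothLib.Ample.isInvertible_pullback U.ι hL) ?_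
  · obtain ⟨T, n, e, hx, he⟩ := hfr x.1
    obtain ⟨e', he'⟩ := he.restrictU U
    exact ⟨_, n, e', hx, he'⟩
  · have h1 := h.2 V
    rw [isAmple_restrict_iff, isAmple_pullback_comp_iff] at h1
    rw [isAmple_pullback_comp_iff, morphismRestrict_ι]
    exact h1

/-- Relative ampleness pulls back along affine morphisms. -/
theorem isRelAmple_pullback (f : X ⟶ Y) [IsAffineHom g] {L : X.Modules} (h : RelAmple.IsRelAmple f L) :
    RelAmple.IsRelAmple (g ≫ f) ((Scheme.Modules.pullback g).obj L) := by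
  haveI := h.1
  refine ⟨inferInstance, fun V => ?_⟩
  have h1 := h.2 V
  rw [isAmple_restrict_iff] at h1 ⊢
  haveI : IsAffineHom (g ∣_ (f ⁻¹ᵁ V.1)) := IsZariskiLocalAtTarget.restrict ‹IsAffineHom g› _
  have h2 := isAmple_pullback_of_isAffineHom (g ∣_ (f ⁻¹ᵁ V.1)) h1
  rw [isAmple_pullback_comp_iff, morphismRestrict_ι] at h2
  rw [isAmple_pullback_comp_iff]
  exact h2

end GrothLib.NormAmple
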