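import Mathlib

/-!
# Determinants of matrices annihilated by monic polynomials
-/

open Polynomial

noncomputable section

namespace GrothLib.NormAmple

variable {R : Type*} [CommRing R] {L : Type*} [Field L] [IsAlgClosed L] [Algebra R L]
  {n : ℕ} (A : Matrix (Fin n) (Fin n) L) (p : R[X])

theorem eval_eq_zero_of_mem_roots (hp : aeval A p = 0) {μ : L} (hμ : μ ∈ A.charpoly.roots) :
    aeval μ p = 0 := by
  have hmem : μ ∈ spectrum L A :=
    Matrix.mem_spectrum_iff_isRoot_charpoly.mpr (isRoot_of_mem_roots hμ)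
  haveI : Nontrivial (Matrix (Fin n) (Fin n) L) := by
    by_contra h
    rw [not_nontrivial_iff_subsingleton] at h
    rw [spectrum.of_subsingleton A] at hmem
    exact hmem
  have h := spectrum.subset_polynomial_aeval A (p.map (algebraMap R L)) ⟨μ, hmem, rfl⟩
  rw [aeval_map_algebraMap, hp, spectrum.zero_eq] at h
  simpa [aeval_def, eval_map] using h

theorem isIntegral_det_of_aeval_eq_zero (hm : p.Monic) (hp : aeval A p = 0) : IsIntegral R A.det := by
  rw [A.det_eq_prod_roots_charpoly]
  exact IsIntegral.multiset_prod fun μ hμ => ⟨p, hm, by rw [← aeval_def]; exact eval_eq_zero_of_mem_roots A p hp hμ⟩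

theorem det_mem_of_aeval_eq_zero (hm : p.Monic) (hp : aeval A p = 0) (hn : 0 < n)
    (P : Ideal (integralClosure R L)) [P.IsPrime]
    (hcoef : ∀ i < p.natDegree, algebraMap R (integralClosure R L) (p.coeff i) ∈ P) :
    ⟨A.det, isIntegral_det_of_aeval_eq_zero A p hm hp⟩ ∈ P := by
  have hcard : Multiset.card A.charpoly.roots = n := by
    rw [(IsAlgClosed.splits A.charpoly).natDegree_eq_card_roots.symm, A.charpoly_natDegree_eq_dim,
      Fintype.card_fin]
  obtain ⟨μ, hμ⟩ := Multiset.card_pos_iff_exists_mem.mp (hcard ▸ hn)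
  obtain ⟨rest, hrest⟩ := Multiset.exists_cons_of_mem hμ
  have hint : ∀ ν ∈ A.charpoly.roots, IsIntegral R ν := fun ν hν =>
    ⟨p, hm, by rw [← aeval_def]; exact eval_eq_zero_of_mem_roots A p hp hν⟩
  have hr : IsIntegral R rest.prod := IsIntegral.multiset_prod fun ν hν =>
    hint ν (by rw [hrest]; exact Multiset.mem_cons_of_mem hν)
  let μ' : integralClosure R L := ⟨μ, hint μ hμ⟩
  have hμP : μ' ∈ P := by
    have h0 : aeval μ' p = 0 := by
      apply Subtype.ext
      rw [← Subalgebra.coe_val, ← aeval_algHom_apply]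
      exact eval_eq_zero_of_mem_roots A p hp hμ
    rw [aeval_eq_sum_range, Finset.sum_range_succ, hm.coeff_natDegree, one_smul] at h0
    refine ‹P.IsPrime›.mem_of_pow_mem p.natDegree ?_
    rw [eq_neg_of_add_eq_zero_right h0]
    refine P.neg_mem (P.sum_mem fun i hi => ?_)
    rw [Algebra.smul_def]
    exact P.mul_mem_right _ (hcoef i (Finset.mem_range.mp hi))
  have e : (⟨A.det, isIntegral_det_of_aeval_eq_zero A p hm hp⟩ : integralClosure R L) = μ' * ⟨rest.prod, hr⟩ := by
    apply Subtype.ext
    show A.det = μ * rest.prod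
    rw [A.det_eq_prod_roots_charpoly, hrest, Multiset.prod_cons]
  rw [e]
  exact P.mul_mem_right _ hμP

end GrothLib.NormAmple
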