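import Groth.Agent.Lib.Ample.Criterion
import Groth.Prelude.Def_Fitting
import Mathlib

/-!
# The norm of the reduction in characteristic `p`
-/

set_option autoImplicit false
set_option linter.all false

universe u

open AlgebraicGeometry CategoryTheory CategoryTheory.Limits TopologicalSpace Opposite
open GrothLib.Ample (res)

noncomputable section

namespace GrothLib.NormAmple

variable {X : Scheme.{u}}

theorem exists_pow_nilpotent_stalk [IsNoetherian X] :
    ∃ m : ℕ, ∀ (x : X) (r : X.presheaf.stalk x), IsNilpotent r → r ^ m = 0 := by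
  classical
  have key : ∀ V : X.affineOpens, ∃ m : ℕ, ∀ (x : X) (hx : x ∈ V.1) (r : X.presheaf.stalk x), IsNilpotent r →
      r ^ m = 0 := by
    intro V
    haveI : IsNoetherianRing Γ(X, V.1) := IsLocallyNoetherian.component_noetherian V
    obtain ⟨m, hm⟩ := IsNoetherianRing.isNilpotent_nilradical Γ(X, V.1)
    refine ⟨m, fun x hx r hr => ?_⟩
    letI := TopCat.Presheaf.algebra_section_stalk X.presheaf (⟨x, hx⟩ : V.1)
    haveI := V.2.isLocalization_stalk ⟨x, hx⟩
    let q := (V.2.primeIdealOf ⟨x, hx⟩).asIdeal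
    obtain ⟨a, t, rfl⟩ := IsLocalization.exists_mk'_eq q.primeCompl r
    obtain ⟨n, hn⟩ := hr
    rw [← IsLocalization.mk'_pow, IsLocalization.mk'_eq_zero_iff] at hn
    obtain ⟨c, hc⟩ := hn
    have hca : IsNilpotent ((c : Γ(X, V.1)) * a) := by
      refine ⟨n + 1, ?_⟩
      rw [mul_pow]
      calc (c : Γ(X, V.1)) ^ (n + 1) * a ^ (n + 1) = c ^ n * a * (c * a ^ n) := by ring
        _ = 0 := by rw [hc, mul_zero]
    have h0 : ((c : Γ(X, V.1)) * a) ^ m = 0 := by
      have := Ideal.pow_mem_pow (mem_nilradical.2 hca) m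
      rwa [hm] at this
    rw [← IsLocalization.mk'_pow, IsLocalization.mk'_eq_zero_iff]
    exact ⟨c ^ m, by rw [SubmonoidClass.coe_pow, ← mul_pow, h0]⟩
  choose m hm using key
  have hV : ∀ x : X, ∃ V : X.affineOpens, x ∈ V.1 := fun x => by
    obtain ⟨V, hV, hx, -⟩ := exists_isAffineOpen_mem_and_subset (x := x) (U := ⊤) trivial
    exact ⟨⟨V, hV⟩, hx⟩
  choose V hxV using hV
  obtain ⟨s, hs⟩ := isCompact_univ.elim_finite_subcover (fun x => ((V x).1 : Set X)) (fun x => (V x).1.2)
    (fun x _ => Set.mem_iUnion.mpr ⟨x, hxV x⟩)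
  refine ⟨∑ x ∈ s, m (V x), fun x r hr => ?_⟩
  obtain ⟨y, hy, hxy⟩ := Set.mem_iUnion₂.1 (hs (Set.mem_univ x))
  exact pow_eq_zero_of_le (Finset.single_le_sum (fun z _ => Nat.zero_le (m (V z))) hy) (hm (V y) x hxy r hr)

variable (X)

/-- The reduction of a scheme with `p = 0` has a norm of degree a power of `p`. -/
theorem hasNorm_nilradical [IsNoetherian X] (p : ℕ) (hp : p.Prime) (hpX : (p : Γ(X, ⊤)) = 0) :
    ∃ e : ℕ, 0 < e ∧ Nrm.HasNorm X.nilradical.subschemeι (p ^ e) := by
  classical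
  obtain ⟨m, hm⟩ := exists_pow_nilpotent_stalk (X := X)
  refine ⟨m + 1, m.succ_pos, ?_⟩
  set q := p ^ (m + 1) with hq
  have hmq : m ≤ q := (Nat.le_succ m).trans (Nat.lt_pow_self hp.one_lt).le
  set π := X.nilradical.subschemeι with hπdef
  -- the Frobenius power only depends on the reduction
  have hker : ∀ (z : X.nilradical.subscheme) (r : X.presheaf.stalk (π z)), π.stalkMap z r = 0 → IsNilpotent r := by
    intro z r hr
    obtain ⟨W, hzW, a, rfl⟩ := TopCat.Presheaf.exists_germ_eq X.presheaf r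
    rw [Scheme.Hom.germ_stalkMap_apply] at hr
    obtain ⟨T, hzT, i, i', heq⟩ := TopCat.Presheaf.germ_eq X.nilradical.subscheme.presheaf z
      (show z ∈ π ⁻¹ᵁ W from hzW) (show z ∈ π ⁻¹ᵁ W from hzW) (π.app W a) 0 (hr.trans (map_zero _).symm)
    obtain rfl : i = i' := Subsingleton.elim _ _
    rw [map_zero] at heq
    obtain ⟨O, hO, hOT⟩ := (π.isClosedEmbedding.isInducing.isOpen_iff).1 T.2
    have hzO : π z ∈ O := by
      have : z ∈ π ⁻¹' O := hOT ▸ hzT
      exact this
    obtain ⟨V, hV, hzV, hVW⟩ := exists_isAffineOpen_mem_and_subset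
      (U := W ⊓ ⟨O, hO⟩) (x := π z) ⟨hzW, hzO⟩
    have hsub : π ⁻¹ᵁ V ≤ T := fun w hw => by
      have : w ∈ π ⁻¹' O := (hVW hw).2
      rwa [hOT] at this
    have hb : π.app V (res (hVW.trans inf_le_left) a) = 0 := by
      have h1 := congr($(π.naturality (homOfLE (hVW.trans inf_le_left : V ≤ W)).op) a)
      refine h1.trans ?_
      have h2 := congrArg (res (X := X.nilradical.subscheme) hsub) heq
      rw [map_zero] at h2
      refine Eq.trans ?_ h2
      exact ((GrothLib.Ample.res_res (X := X.nilradical.subscheme) i.le hsub (π.app W a))).symm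
    have hmem : res (hVW.trans inf_le_left) a ∈ π.ker.ideal ⟨V, hV⟩ := by
      rw [Scheme.Hom.ker_apply]; exact hb
    rw [hπdef, Scheme.IdealSheafData.ker_subschemeι] at hmem
    have hnil : IsNilpotent (res (hVW.trans inf_le_left) a) := by
      rw [Scheme.nilradical, Scheme.IdealSheafData.radical_ideal] at hmem
      obtain ⟨n, hn⟩ := hmem
      exact ⟨n, by simpa using hn⟩
    have h3 := hnil.map (X.presheaf.germ V (π z) hzV).hom
    erw [TopCat.Presheaf.germ_res_apply] at h3
    exact h3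
  have hp0 : ∀ x : X, (p : X.presheaf.stalk x) = 0 := fun x => by
    have := congrArg (X.presheaf.germ ⊤ x trivial) hpX
    rwa [map_natCast, map_zero] at this
  have hfrob : ∀ (z : X.nilradical.subscheme) (r r' : X.presheaf.stalk (π z)),
      π.stalkMap z r = π.stalkMap z r' → r ^ q = r' ^ q := by
    intro z r r' h
    haveI : CharP (X.presheaf.stalk (π z)) p := (CharP.charP_iff_prime_eq_zero hp).2 (hp0 _)
    haveI := Fact.mk hp
    haveI : ExpChar (X.presheaf.stalk (π z)) p := ExpChar.prime hp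
    have hn := hm _ _ (hker z (r - r') (by rw [map_sub, h, sub_self]))
    have h2 := pow_eq_zero_of_le hmq hn
    rw [hq, sub_pow_expChar_pow] at h2
    exact sub_eq_zero.1 h2
  have hsurj : ∀ x : X, ∃ z, π z = x := fun x => by
    have : x ∈ Set.range π := by
      rw [hπdef, Scheme.IdealSheafData.range_subschemeι, Scheme.support_nilradical]; trivial
    exact this
  let P : ∀ W : X.Opens, Γ(X.nilradical.subscheme, π ⁻¹ᵁ W) → Γ(X, W) → Prop := fun W s t =>
    ∀ (z : X.nilradical.subscheme) (hz : π z ∈ W) (r : X.presheaf.stalk (π z)),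
      π.stalkMap z r = X.nilradical.subscheme.presheaf.germ (π ⁻¹ᵁ W) z hz s →
        X.presheaf.germ W (π z) hz t = r ^ q
  have huniq : ∀ W s (t t' : Γ(X, W)), P W s t → P W s t' → t = t' := by
    intro W s t t' ht ht'
    refine TopCat.Presheaf.section_ext X.sheaf W t t' fun x hx => ?_
    obtain ⟨z, rfl⟩ := hsurj x
    obtain ⟨r, hr⟩ := π.stalkMap_surjective z (X.nilradical.subscheme.presheaf.germ (π ⁻¹ᵁ W) z hx s)
    exact (ht z hx r hr).trans (ht' z hx r hr).symm
  have hresP : ∀ {W W' : X.Opens} (h : W' ≤ W) s t, P W s t → P W' (res (π.preimage_mono h) s) (res h t) := by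
    intro W W' h s t ht z hz r hr
    erw [TopCat.Presheaf.germ_res_apply] at hr
    erw [TopCat.Presheaf.germ_res_apply]
    exact ht z (h hz) r hr
  have hex : ∀ W s, ∃ t : Γ(X, W), P W s t := by
    intro W s
    have hloc : ∀ x : W, ∃ (V : X.Opens) (hV : V ≤ W) (t : Γ(X, V)), x.1 ∈ V ∧
        P V (res (π.preimage_mono hV) s) t := by
      intro x
      obtain ⟨z, hz⟩ := hsurj x.1
      have hzW : π z ∈ W := hz ▸ x.2
      obtain ⟨r, hr⟩ := π.stalkMap_surjective z (X.nilradical.subscheme.presheaf.germ (π ⁻¹ᵁ W) z hzW s)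
      obtain ⟨U, hU, a, rfl⟩ := TopCat.Presheaf.exists_germ_eq X.presheaf r
      rw [Scheme.Hom.germ_stalkMap_apply] at hr
      obtain ⟨T, hzT, i, j, heq⟩ := TopCat.Presheaf.germ_eq X.nilradical.subscheme.presheaf z
        (show z ∈ π ⁻¹ᵁ U from hU) (show z ∈ π ⁻¹ᵁ W from hzW) _ _ hr
      obtain ⟨O, hO, hOT⟩ := (π.isClosedEmbedding.isInducing.isOpen_iff).1 T.2
      have hzO : π z ∈ O := by
        have : z ∈ π ⁻¹' O := hOT ▸ hzT
        exact this
      let V : X.Opens := U ⊓ W ⊓ ⟨O, hO⟩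
      have hVU : V ≤ U := inf_le_left.trans inf_le_left
      have hVW : V ≤ W := inf_le_left.trans inf_le_right
      refine ⟨V, hVW, res hVU a ^ q, hz ▸ ⟨⟨hU, hzW⟩, hzO⟩, fun w hw r hr => ?_⟩
      rw [map_pow]
      refine (hfrob w _ _ ?_).symm
      rw [hr]
      have hwT : w ∈ T := by
        have : w ∈ π ⁻¹' O := hw.2
        rwa [hOT] at this
      erw [TopCat.Presheaf.germ_res_apply, TopCat.Presheaf.germ_res_apply, Scheme.Hom.germ_stalkMap_apply]
      rw [← TopCat.Presheaf.germ_res_apply _ j w hwT s, ← TopCat.Presheaf.germ_res_apply _ i w hwT, heq]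
    choose V hV t hxV ht using hloc
    obtain ⟨T, hT, -⟩ := TopCat.Sheaf.existsUnique_gluing' X.sheaf V W (fun x => homOfLE (hV x))
      (fun x hx => Opens.mem_iSup.mpr ⟨⟨x, hx⟩, hxV ⟨x, hx⟩⟩) t fun i j => by
        show res (inf_le_left : V i ⊓ V j ≤ V i) (t i) = res inf_le_right (t j)
        refine huniq _ (res (π.preimage_mono (inf_le_left.trans (hV i))) s) _ _ ?_ ?_
        · have := hresP (inf_le_left : V i ⊓ V j ≤ V i) _ _ (ht i)
          rwa [GrothLib.Ample.res_res] at this
        · have := hresP (inf_le_right : V i ⊓ V j ≤ V j) _ _ (ht j)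
          rwa [GrothLib.Ample.res_res] at this
    refine ⟨T, fun z hz r hr => ?_⟩
    have h1 := ht ⟨π z, hz⟩ z (hxV _) r (by
      rw [hr]; exact (TopCat.Presheaf.germ_res_apply _ _ _ _ _).symm)
    rw [← show res (hV ⟨π z, hz⟩) T = t ⟨π z, hz⟩ from hT ⟨π z, hz⟩] at h1
    erw [TopCat.Presheaf.germ_res_apply] at h1
    exact h1
  choose N hN using hex
  have happ : ∀ W g, N W (π.app W g) = g ^ q := fun W g => huniq _ _ _ _ (hN W _) fun z hz r hr => by
    rw [map_pow]
    refine (hfrob z _ _ ?_).symm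
    rw [hr, Scheme.Hom.germ_stalkMap_apply]
  exact ⟨{
    one_le := Nat.one_le_pow _ _ hp.pos
    norm := fun W =>
      { toFun := N W
        map_one' := by
          have := happ W 1
          rwa [map_one, one_pow] at this
        map_mul' := fun a b => huniq _ _ _ _ (hN W (a * b)) fun z hz r hr => by
          obtain ⟨ra, hra⟩ := π.stalkMap_surjective z (X.nilradical.subscheme.presheaf.germ (π ⁻¹ᵁ W) z hz a)
          obtain ⟨rb, hrb⟩ := π.stalkMap_surjective z (X.nilradical.subscheme.presheaf.germ (π ⁻¹ᵁ W) z hz b)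
          rw [map_mul, hN W a z hz ra hra, hN W b z hz rb hrb, ← mul_pow]
          refine (hfrob z _ _ ?_).symm
          rw [hr, map_mul, map_mul, hra, hrb] }
    norm_res := fun {U V} i s => huniq _ _ _ _ (hresP i.le _ _ (hN U s)) (hN V _)
    norm_app := happ
    norm_mem := fun U s z hz hs => by
      obtain ⟨r, hr⟩ := π.stalkMap_surjective z (X.nilradical.subscheme.presheaf.germ (π ⁻¹ᵁ U) z hz s)
      show X.presheaf.germ U (π z) hz (N U s) ∈ _
      rw [hN U s z hz r hr]
      refine Ideal.pow_mem_of_mem _ ?_ _ (Nat.pow_pos hp.pos)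
      rw [IsLocalRing.mem_maximalIdeal, mem_nonunits_iff] at hs ⊢
      intro hu
      exact hs (hr ▸ hu.map (π.stalkMap z).hom) }⟩

end GrothLib.NormAmple
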