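import Groth.Agent.Lib.NormalExt.Basic
import Groth.Agent.Lib.Ample.Criterion
import Groth.Prelude.Def_Fitting
import Groth.Prelude.Def_Pi1
import Mathlib

/-!
# The norm along a finite surjective morphism to an integral normal scheme
-/

set_option autoImplicit false
set_option linter.all false

universe u

open AlgebraicGeometry CategoryTheory CategoryTheory.Limits TopologicalSpace Opposite
open GrothLib.Ample (res)

noncomputable section

namespace GrothLib.NormAmple

variable {X Y : Scheme.{u}} (π : X ⟶ Y) [IsIntegral X] [IsIntegral Y] [Surjective π]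

theorem map_genericPoint : π (genericPoint X) = genericPoint Y := by
  have h := (genericPoint_spec X).image π.continuous
  rw [Set.image_univ, π.surjective.range_eq, closure_univ] at h
  exact h.eq (by simpa using genericPoint_spec Y)

/-- The map of function fields. -/
def fmap : Y.functionField ⟶ X.functionField :=
  Y.presheaf.stalkSpecializes (specializes_of_eq (map_genericPoint π)) ≫ π.stalkMap (genericPoint X)

theorem fmap_germ {W : Y.Opens} (h : genericPoint Y ∈ W) (h' : genericPoint X ∈ π ⁻¹ᵁ W) (a : Γ(Y, W)) :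
    fmap π (Y.presheaf.germ W (genericPoint Y) h a) = X.presheaf.germ (π ⁻¹ᵁ W) (genericPoint X) h' (π.app W a) := by
  simp only [fmap, CommRingCat.comp_apply]
  erw [TopCat.Presheaf.germ_stalkSpecializes_apply, Scheme.Hom.germ_stalkMap_apply]

theorem genericPoint_mem_preimage {W : Y.Opens} (h : genericPoint Y ∈ W) : genericPoint X ∈ π ⁻¹ᵁ W := by
  show π (genericPoint X) ∈ W
  rw [map_genericPoint]
  exact h

theorem genericPoint_mem {W : Y.Opens} {y : Y} (hy : y ∈ W) : genericPoint Y ∈ W :=
  ((genericPoint_spec Y).specializes trivial).mem_open W.2 hy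

/-- The degree. -/
def fdeg : ℕ :=
  letI := (fmap π).hom.toAlgebra
  Module.finrank Y.functionField X.functionField

/-- The norm of the germ of a section. -/
def gnorm {W : Y.Opens} (h : genericPoint Y ∈ W) (s : Γ(X, π ⁻¹ᵁ W)) : Y.functionField :=
  letI := (fmap π).hom.toAlgebra
  Algebra.norm Y.functionField (X.presheaf.germ (π ⁻¹ᵁ W) (genericPoint X) (genericPoint_mem_preimage π h) s :
    X.functionField)

theorem gnorm_res {W W' : Y.Opens} (hle : W' ≤ W) (h : genericPoint Y ∈ W') (s : Γ(X, π ⁻¹ᵁ W)) :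
    gnorm π h (res (π.preimage_mono hle) s) = gnorm π (hle h) s := by
  simp only [gnorm, res]
  erw [TopCat.Presheaf.germ_res_apply]

variable [IsFinite π] (hY : Pi1.IsNormalScheme Y)

/-- The setting over an affine open. -/
theorem affine_data {V : Y.Opens} (hV : IsAffineOpen V) (hη : genericPoint Y ∈ V) :
    letI := (fmap π).hom.toAlgebra
    FiniteDimensional Y.functionField X.functionField ∧
    ∀ (b : Γ(X, π ⁻¹ᵁ V)), (Pi1.IsNormalScheme Y → ∃ a : Γ(Y, V), Y.presheaf.germ V (genericPoint Y) hη a = gnorm π hη b ∧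
      ∀ (x : X) (hx : π x ∈ V), X.presheaf.germ (π ⁻¹ᵁ V) x hx b ∈ IsLocalRing.maximalIdeal (X.presheaf.stalk x) →
        Y.presheaf.germ V (π x) hx a ∈ IsLocalRing.maximalIdeal (Y.presheaf.stalk (π x))) := by
  letI iKL := (fmap π).hom.toAlgebra
  haveI : Nonempty V := ⟨⟨_, hη⟩⟩
  haveI : Nonempty (π ⁻¹ᵁ V : X.Opens) := ⟨⟨_, genericPoint_mem_preimage π hη⟩⟩
  haveI := functionField_isFractionRing_of_isAffineOpen Y V hV
  haveI := functionField_isFractionRing_of_isAffineOpen X (π ⁻¹ᵁ V) (hV.preimage π)
  letI iAB : Algebra Γ(Y, V) Γ(X, π ⁻¹ᵁ V) := (π.app V).hom.toAlgebra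
  haveI : Module.Finite Γ(Y, V) Γ(X, π ⁻¹ᵁ V) := π.finite_app V hV
  letI iAL : Algebra Γ(Y, V) X.functionField :=
    ((algebraMap Γ(X, π ⁻¹ᵁ V) X.functionField).comp (π.app V).hom).toAlgebra
  haveI : IsScalarTower Γ(Y, V) Γ(X, π ⁻¹ᵁ V) X.functionField := IsScalarTower.of_algebraMap_eq fun _ => rfl
  haveI : IsScalarTower Γ(Y, V) Y.functionField X.functionField :=
    IsScalarTower.of_algebraMap_eq fun a => (fmap_germ π hη (genericPoint_mem_preimage π hη) a).symm
  have hintB : ∀ b : Γ(X, π ⁻¹ᵁ V), IsIntegral Γ(Y, V) (algebraMap Γ(X, π ⁻¹ᵁ V) X.functionField b) := fun b =>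
    (Algebra.IsIntegral.isIntegral (R := Γ(Y, V)) b).algebraMap
  have hfd : FiniteDimensional Y.functionField X.functionField := by
    classical
    obtain ⟨G, hG⟩ := (inferInstance : Module.Finite Γ(Y, V) Γ(X, π ⁻¹ᵁ V)).fg_top
    let S : Subalgebra Y.functionField X.functionField :=
      Algebra.adjoin Y.functionField (algebraMap Γ(X, π ⁻¹ᵁ V) X.functionField '' (G : Set _))
    have hfg : S.toSubmodule.FG := fg_adjoin_of_finite ((G.finite_toSet).image _) (by
      rintro _ ⟨b, -, rfl⟩
      exact (hintB b).tower_top)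
    haveI : Module.Finite Y.functionField S := Module.Finite.iff_fg.2 hfg
    have hB : ∀ b : Γ(X, π ⁻¹ᵁ V), algebraMap Γ(X, π ⁻¹ᵁ V) X.functionField b ∈ S := fun b => by
      have hb : b ∈ Submodule.span Γ(Y, V) (G : Set Γ(X, π ⁻¹ᵁ V)) := hG ▸ Submodule.mem_top
      induction hb using Submodule.span_induction with
      | mem w hw => exact Algebra.subset_adjoin ⟨w, hw, rfl⟩
      | zero => rw [map_zero]; exact zero_mem _
      | add u w _ _ hu hw => rw [map_add]; exact add_mem hu hw
      | smul r u _ hu =>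
        rw [Algebra.smul_def, map_mul, ← IsScalarTower.algebraMap_apply,
          IsScalarTower.algebraMap_apply Γ(Y, V) Y.functionField X.functionField]
        exact mul_mem (Subalgebra.algebraMap_mem _ _) hu
    have hS : S = ⊤ := eq_top_iff.2 fun z _ => by
      obtain ⟨b, c, hc, rfl⟩ := IsFractionRing.div_surjective (A := Γ(X, π ⁻¹ᵁ V)) z
      rw [div_eq_mul_inv]
      refine mul_mem (hB b) ?_
      exact Subalgebra.inv_mem_of_algebraic (A := S) (x := ⟨_, hB c⟩)
        ((hintB c).tower_top (A := Y.functionField)).isAlgebraic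
    exact Module.Finite.equiv ((Subalgebra.equivOfEq _ _ hS).trans Subalgebra.topEquiv).toLinearEquiv
  refine ⟨hfd, fun b hY => ?_⟩
  haveI : IsIntegrallyClosed Γ(Y, V) := NormalExt.isIntegrallyClosed_Γ (fun y => (hY y).2) V hV
  let bL : X.functionField := algebraMap Γ(X, π ⁻¹ᵁ V) X.functionField b
  obtain ⟨a, ha⟩ := IsIntegrallyClosed.isIntegral_iff.1 (Algebra.isIntegral_norm Y.functionField (hintB b))
  refine ⟨a, ha, fun x hx hbx => ?_⟩
  have hint : IsIntegral Y.functionField bL := (hintB b).tower_top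
  let P := minpoly Γ(Y, V) bL
  have hP : minpoly Y.functionField bL = P.map (algebraMap Γ(Y, V) Y.functionField) :=
    minpoly.isIntegrallyClosed_eq_field_fractions' Y.functionField (hintB b)
  -- the constant term vanishes at the point
  have h0 : Y.presheaf.germ V (π x) hx (P.coeff 0) ∈ IsLocalRing.maximalIdeal (Y.presheaf.stalk (π x)) := by
    have hPb : Polynomial.aeval b P = 0 := by
      refine IsFractionRing.injective Γ(X, π ⁻¹ᵁ V) X.functionField ?_
      rw [map_zero, ← Polynomial.aeval_algebraMap_apply]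
      exact minpoly.aeval Γ(Y, V) bL
    rw [← Polynomial.X_mul_divX_add P, map_add, map_mul, Polynomial.aeval_X, Polynomial.aeval_C,
      add_eq_zero_iff_neg_eq] at hPb
    have h1 : X.presheaf.germ (π ⁻¹ᵁ V) x hx ((π.app V) (P.coeff 0)) ∈
        IsLocalRing.maximalIdeal (X.presheaf.stalk x) := by
      rw [show (π.app V) (P.coeff 0) = algebraMap Γ(Y, V) Γ(X, π ⁻¹ᵁ V) (P.coeff 0) from rfl, ← hPb, map_neg,
        map_mul]
      exact neg_mem (Ideal.mul_mem_right _ (IsLocalRing.maximalIdeal (X.presheaf.stalk x)) hbx)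
    rw [IsLocalRing.mem_maximalIdeal, mem_nonunits_iff] at h1 ⊢
    intro hu
    refine h1 ?_
    have h2 := hu.map (π.stalkMap x).hom
    rwa [Scheme.Hom.germ_stalkMap_apply] at h2
  haveI := hfd
  let pb := IntermediateField.adjoin.powerBasis hint
  have hn : gnorm π hη b = algebraMap Γ(Y, V) Y.functionField
      (((-1) ^ pb.dim * P.coeff 0) ^ Module.finrank ↥(IntermediateField.adjoin Y.functionField {bL}) X.functionField) := by
    show Algebra.norm Y.functionField bL = _
    rw [Algebra.norm_eq_norm_adjoin Y.functionField bL, map_pow]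
    congr 1
    show Algebra.norm Y.functionField pb.gen = _
    rw [Algebra.PowerBasis.norm_gen_eq_coeff_zero_minpoly, map_mul, map_pow, map_neg, map_one]
    congr 1
    rw [show pb.gen = IntermediateField.AdjoinSimple.gen Y.functionField bL from rfl,
      IntermediateField.minpoly_gen, hP, Polynomial.coeff_map]
  have hpos : 0 < Module.finrank ↥(IntermediateField.adjoin Y.functionField {bL}) X.functionField :=
    Module.finrank_pos
  have e : a = ((-1) ^ pb.dim * P.coeff 0) ^
      Module.finrank ↥(IntermediateField.adjoin Y.functionField {bL}) X.functionField :=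
    IsFractionRing.injective Γ(Y, V) Y.functionField (ha.trans hn)
  rw [e, map_pow, map_mul]
  exact Ideal.pow_mem_of_mem _ ((IsLocalRing.maximalIdeal _).mul_mem_left _ h0) _ hpos

include hY in
theorem existsUnique_norm (W : Y.Opens) (s : Γ(X, π ⁻¹ᵁ W)) :
    ∃! t : Γ(Y, W), ∀ h : genericPoint Y ∈ W, Y.presheaf.germ W (genericPoint Y) h t = gnorm π h s := by
  have key : ∀ y : W, ∃ (V : Y.Opens) (hV : V ≤ W) (t : Γ(Y, V)) (hyV : y.1 ∈ V),
      Y.presheaf.germ V (genericPoint Y) (genericPoint_mem hyV) t = gnorm π (hV (genericPoint_mem hyV)) s := by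
    intro y
    obtain ⟨V, hV, hyV, hVW⟩ := exists_isAffineOpen_mem_and_subset y.2
    obtain ⟨a, ha, -⟩ := (affine_data π hV (genericPoint_mem hyV)).2 (res (π.preimage_mono hVW) s) hY
    exact ⟨V, hVW, a, hyV, ha.trans (gnorm_res π hVW _ s)⟩
  choose V hV t hyV ht using key
  obtain ⟨T, hT, -⟩ := TopCat.Sheaf.existsUnique_gluing' Y.sheaf V W (fun y => homOfLE (hV y))
    (fun y hy => Opens.mem_iSup.mpr ⟨⟨y, hy⟩, hyV ⟨y, hy⟩⟩) t fun i j => by
      show res (inf_le_left : V i ⊓ V j ≤ V i) (t i) = res inf_le_right (t j)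
      refine germ_injective_of_isIntegral Y (U := V i ⊓ V j) (genericPoint Y)
        ⟨genericPoint_mem (hyV i), genericPoint_mem (hyV j)⟩ ?_
      erw [TopCat.Presheaf.germ_res_apply, TopCat.Presheaf.germ_res_apply, ht i, ht j]
  refine ⟨T, fun h => ?_, fun T' hT' => ?_⟩
  · rw [← ht ⟨_, h⟩, ← show res (hV ⟨_, h⟩) T = t ⟨_, h⟩ from hT ⟨_, h⟩]
    exact (TopCat.Presheaf.germ_res_apply _ _ _ _ _).symm
  · by_cases hW : genericPoint Y ∈ W
    · refine germ_injective_of_isIntegral Y (genericPoint Y) hW ((hT' hW).trans ?_)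
      rw [← ht ⟨_, hW⟩, ← show res (hV ⟨_, hW⟩) T = t ⟨_, hW⟩ from hT ⟨_, hW⟩]
      exact TopCat.Presheaf.germ_res_apply _ _ _ _ _
    · haveI : Subsingleton Γ(Y, W) := by
        rw [show W = ⊥ from le_bot_iff.1 fun y hy => (hW (genericPoint_mem hy)).elim]
        infer_instance
      exact Subsingleton.elim _ _

include hY in
/-- A finite surjective morphism from an integral scheme to an integral normal scheme has a norm. -/
theorem hasNorm_of_normal : ∃ d, Nrm.HasNorm π d := by
  letI iKL := (fmap π).hom.toAlgebra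
  obtain ⟨y₀⟩ := (inferInstance : Nonempty Y)
  obtain ⟨V₀, hV₀, hyV₀, -⟩ := exists_isAffineOpen_mem_and_subset (x := y₀) (U := ⊤) trivial
  haveI := (affine_data π hV₀ (genericPoint_mem hyV₀)).1
  let N : ∀ W, Γ(X, π ⁻¹ᵁ W) → Γ(Y, W) := fun W s => (existsUnique_norm π hY W s).exists.choose
  have hN : ∀ W s (h : genericPoint Y ∈ W), Y.presheaf.germ W (genericPoint Y) h (N W s) = gnorm π h s :=
    fun W s => (existsUnique_norm π hY W s).exists.choose_spec
  have hNeq : ∀ W s t, (∀ h : genericPoint Y ∈ W, Y.presheaf.germ W (genericPoint Y) h t = gnorm π h s) →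
      N W s = t := fun W s t ht => (existsUnique_norm π hY W s).unique (hN W s) ht
  have happ : ∀ W g, N W (π.app W g) = g ^ fdeg π := fun W g => hNeq _ _ _ fun h => by
    rw [map_pow, gnorm, fdeg, ← fmap_germ π h (genericPoint_mem_preimage π h) g]
    exact (Algebra.norm_algebraMap _).symm
  exact ⟨fdeg π, ⟨{
    one_le := Module.finrank_pos
    norm := fun W =>
      { toFun := N W
        map_one' := by
          have := happ W 1
          rwa [map_one, one_pow] at this
        map_mul' := fun a b => hNeq _ _ _ fun h => by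
          rw [map_mul, hN W a h, hN W b h]
          simp only [gnorm, map_mul] }
    norm_res := fun {U V} i s => by
      symm
      refine hNeq _ _ _ fun h => ?_
      show Y.presheaf.germ V _ h (res i.le (N U s)) = gnorm π h (res (π.preimage_mono i.le) s)
      rw [gnorm_res π i.le h s, ← hN U s (i.le h)]
      exact TopCat.Presheaf.germ_res_apply _ _ _ _ _
    norm_app := happ
    norm_mem := fun U s x hx hs => by
      obtain ⟨V, hV, hxV, hVU⟩ := exists_isAffineOpen_mem_and_subset hx
      obtain ⟨a, ha, hvan⟩ := (affine_data π hV (genericPoint_mem hxV)).2 (res (π.preimage_mono hVU) s) hY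
      have e : res hVU (N U s) = a := germ_injective_of_isIntegral Y (genericPoint Y) (genericPoint_mem hxV) (by
        erw [TopCat.Presheaf.germ_res_apply]
        rw [hN U s, ha, gnorm_res])
      have h1 := hvan x hxV (by erw [TopCat.Presheaf.germ_res_apply]; exact hs)
      rw [← e] at h1
      erw [TopCat.Presheaf.germ_res_apply] at h1
      exact h1 }⟩⟩

end GrothLib.NormAmple
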